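import Cfsg.Agent.H150.Toral.Main
import Cfsg.Agent.H55.Sd.Iface

/-!
# The toral lemma in the form of the interface `H55/Sd/Iface`
-/

set_option autoImplicit false

namespace Cfsg.Agent.H150.Toral

open Cfsg Subgroup Cfsg.Agent.H55.Sd

universe u

theorem torConcl_aux {S : Type u} [Group S] [Fintype S] {U T N : Subgroup S} (h : Sys U T N) {ψ : U →* ℂˣ}
    (hψ : Reg U T N ψ) {B : Subgroup S} (hB : h.B = B) {σ : B →* ℂˣ} (hσ : TorChar B U T N σ)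
    {M : Ideal AlgInt} (hM : IsPModular 2 M) : TorConcl M B U σ ψ := by
  subst hB
  let s : T →* ℂˣ := σ.comp (inclusion h.T_le)
  have hs : ∀ t : T, s t = σ ⟨t, h.T_le t.2⟩ := fun _ => rfl
  have hlin : h.lin s = σ := by
    ext b
    obtain ⟨u, hu, e⟩ := h.pr_spec b
    rw [h.lin_eq s hu e, hs]
    have h1 : b = ⟨u, h.U_le hu⟩ * ⟨h.pr b, h.T_le (h.pr b).2⟩ := Subtype.ext e
    conv_rhs => rw [h1]
    rw [map_mul, hσ.triv u hu (h.U_le hu), one_mul]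
  have horb : orb T N s = conjSet h.B T N σ := by
    ext τ
    constructor
    · rintro ⟨n, hn, hc⟩
      refine ⟨n⁻¹, N.inv_mem hn, fun t ht => ?_⟩
      have h1 : n⁻¹ * (t : S) * n ∈ T := h.NT' hn t.2
      rw [hc t ⟨_, h1⟩ rfl, hs]
      congr 1
      apply Subtype.ext
      change n⁻¹ * (t : S) * n = n⁻¹ * t * n⁻¹⁻¹
      rw [inv_inv]
    · rintro ⟨n, hn, hc⟩
      refine ⟨n⁻¹, N.inv_mem hn, fun a b hab => ?_⟩
      rw [inv_inv] at hab
      have h1 : n * (a : S) * n⁻¹ ∈ h.B := h.T_le (h.NT n hn a a.2)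
      rw [hc a h1, hs]
      congr 1
      exact Subtype.ext hab.symm
  obtain ⟨k, hk⟩ := hσ.two
  obtain ⟨χ, h1, h2, h3, h4, h5, h6⟩ := main h hψ s ⟨k, fun t => hk _⟩ (by
    rw [horb]
    have := hσ.odd
    rwa [Nat.card_coe_set_eq] at this)
  rw [hlin] at h1 h3
  refine ⟨χ, by rw [h1]; exact one_ne_zero, by rw [h2]; exact one_ne_zero, h3, h4, h5 M hM, h6 ?_⟩
  obtain ⟨b, hb⟩ := hσ.ne
  refine ⟨h.proj b, ?_⟩
  rwa [← Sys.lin_apply, hlin]

/-- **TL-1 in the form of the interface.** -/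
theorem torConcl {S : Type u} [Group S] [Fintype S] {U T N : Subgroup S} (h : Sys U T N) {ψ : U →* ℂˣ}
    (hψ : Reg U T N ψ) {σ : ↥(U ⊔ T) →* ℂˣ} (hσ : TorChar (U ⊔ T) U T N σ)
    {M : Ideal AlgInt} (hM : IsPModular 2 M) : TorConcl M (U ⊔ T) U σ ψ :=
  torConcl_aux h hψ h.B_eq hσ hM

end Cfsg.Agent.H150.Toral
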