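import Cfsg.Agent.H150.Toral.Bridge
import Cfsg.Agent.Characters.Linear
import Cfsg.Agent.CharactersDeep.CliffordSum

/-!
# The number of constituents of the toral character below a normal subgroup

`S` is a normal subgroup of `G = Th S`. The toral character `χh` of `G` (regular character `ψh`, `2`-power character
`sh`) restricts to `S` as a multiple of the sum of the characters of `S` which contain `s = sh|T` and a conjugate of
`ψh|U`. As its degree is odd, so is their number.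
-/

set_option autoImplicit false

namespace Cfsg.Agent.H150.Toral

open Cfsg
open scoped ComplexConjugate
open Cfsg.Agent.Characters

universe u

/-- a linear constituent restricts to a constituent -/
theorem con_comp {H H' : Type*} [Group H] [Group H'] [Fintype H] [Fintype H'] (f : H' →* H) {χ : H → ℂ}
    (hχ : IsCharacter H χ) (l : H →* ℂˣ) (h : classInner (fun x => (l x : ℂ)) χ ≠ 0) :
    classInner (fun x => (l (f x) : ℂ)) (χ ∘ f) ≠ 0 := by
  classical
  have : Finite (IrrCharacter H) := Core.finite_irr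
  let _ : Fintype (IrrCharacter H) := Fintype.ofFinite _
  obtain ⟨m, hm⟩ := Core.exists_nat_comb hχ
  let L : IrrCharacter H := ⟨_, Linear.isIrrCharacter_hom l⟩
  have hL : ((L : H → ℂ)) = fun x => (l x : ℂ) := rfl
  have hmL : m L ≠ 0 := by
    intro h0
    apply h
    rw [← Core.classInner_conj_symm, hm, ← hL, Core.classInner_sum_nsmul_irr, h0]
    simp
  have hl' : IsCharacter H' (fun x => (l (f x) : ℂ)) := Linear.isCharacter_hom (l.comp f)
  have hli : IsIrrCharacter H' (fun x => (l (f x) : ℂ)) := Linear.isIrrCharacter_hom (l.comp f)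
  choose k hk using fun ψ : IrrCharacter H =>
    Core.classInner_isNat hl' (Core.isCharacter_comp f (Core.isIrr_isCharacter ψ.2))
  have hkL : k L = 1 := by
    have h1 := hk L
    have h2 : ((L : H → ℂ)) ∘ f = fun x => (l (f x) : ℂ) := rfl
    rw [h2, Core.classInner_irr_self hli] at h1
    exact_mod_cast h1.symm
  have hsum : classInner (fun x => (l (f x) : ℂ)) (χ ∘ f) = ((∑ ψ : IrrCharacter H, m ψ * k ψ : ℕ) : ℂ) := by
    have h1 : χ ∘ f = ∑ ψ : IrrCharacter H, (m ψ : ℂ) • (((ψ : H → ℂ)) ∘ f) := by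
      funext x
      rw [Function.comp_apply, hm, Finset.sum_apply, Finset.sum_apply]
      refine Finset.sum_congr rfl fun ψ _ => ?_
      rw [Pi.smul_apply, Pi.smul_apply, nsmul_eq_mul, smul_eq_mul, Function.comp_apply]
    rw [h1, Core.classInner_sum_right]
    push_cast
    refine Finset.sum_congr rfl fun ψ _ => ?_
    rw [Core.classInner_smul_right, hk, Complex.conj_natCast]
  rw [hsum]
  have h3 : 0 < ∑ ψ : IrrCharacter H, m ψ * k ψ := by
    refine Finset.sum_pos' (fun _ _ => Nat.zero_le _) ⟨L, Finset.mem_univ _, ?_⟩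
    rw [hkL, mul_one]
    exact Nat.pos_of_ne_zero hmL
  exact_mod_cast h3.ne'

/-- two characters which are not orthogonal have a common constituent -/
theorem exists_con {H : Type*} [Group H] [Fintype H] {X R : H → ℂ} (hX : IsCharacter H X) (hR : IsCharacter H R)
    (h : classInner X R ≠ 0) :
    ∃ φ : IrrCharacter H, classInner X (φ : H → ℂ) ≠ 0 ∧ classInner R (φ : H → ℂ) ≠ 0 := by
  classical
  have : Finite (IrrCharacter H) := Core.finite_irr
  let _ : Fintype (IrrCharacter H) := Fintype.ofFinite _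
  rw [Core.classInner_eq_sum (Core.isCharacter_isClassFunction hX) (Core.isCharacter_isClassFunction hR)] at h
  obtain ⟨φ, -, hφ⟩ := Finset.exists_ne_zero_of_sum_ne_zero h
  refine ⟨φ, left_ne_zero_of_mul hφ, fun h0 => ?_⟩
  rw [h0, map_zero, mul_zero] at hφ
  exact hφ rfl

/-- Frobenius reciprocity for a character -/
theorem frob {H : Type*} [Group H] [Fintype H] (K : Subgroup H) [Fintype K] (l : K → ℂ) {χ : H → ℂ}
    (hχ : IsClassFunction H χ) : classInner (indFun K l) χ = classInner l (fun x : K => χ x) :=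
  S0150.classInner_indFun K l χ fun g x => hχ g x

/-- transport of an inner product with an induced function along an automorphism -/
theorem ind_auto {H : Type*} [Group H] [Fintype H] {K : Subgroup H} {α : MulAut H} (hα : ∀ x, x ∈ K ↔ α x ∈ K)
    {l l' : K → ℂ} (hl : ∀ x y : K, (y : H) = α x → l' x = l y) {χ : H → ℂ}
    (hχ : IsClassFunction H χ) :
    classInner (indFun K l') (χ ∘ α) = classInner (indFun K l) χ := by
  classical
  have := Fintype.ofFinite K
  have hχ' : IsClassFunction H (χ ∘ α) := by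
    intro g x
    rw [Function.comp_apply, Function.comp_apply, map_mul, map_mul, map_inv]
    exact hχ _ _
  rw [frob K l' hχ', frob K l hχ]
  let β : K ≃ K :=
    { toFun := fun x => ⟨α x, (hα x).1 x.2⟩
      invFun := fun x => ⟨α.symm x, (hα _).2 (by rw [MulEquiv.apply_symm_apply]; exact x.2)⟩
      left_inv := fun x => Subtype.ext (α.symm_apply_apply _)
      right_inv := fun x => Subtype.ext (α.apply_symm_apply _) }
  unfold classInner
  congr 1
  refine Fintype.sum_equiv β _ _ fun x => ?_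
  rw [hl x (β x) rfl]
  rfl

theorem conjNormal_self {G : Type u} [Group G] (S : Subgroup G) [S.Normal] {φ : S → ℂ} (hφ : IsClassFunction S φ)
    {y : G} (hy : y ∈ S) : φ ∘ (MulAut.conjNormal y : MulAut S) = φ := by
  funext n
  have h1 : (MulAut.conjNormal y : MulAut S) n = ⟨y, hy⟩ * n * (⟨y, hy⟩ : S)⁻¹ := by
    apply Subtype.ext
    rw [MulAut.conjNormal_apply]
    rfl
  rw [Function.comp_apply, h1]
  exact hφ n ⟨y, hy⟩

/-- **The number of characters of `S` which contain `s` and a conjugate of `ψ₀` is odd.** -/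
theorem odd_count {G : Type u} [Group G] [Fintype G] (S : Subgroup G) [S.Normal] [Fintype S] {Uh Th Nh : Subgroup G}
    {U T N : Subgroup S} (hh : Sys Uh Th Nh) (h : Sys U T N) (hU : U.map S.subtype = Uh)
    (hT : T.map S.subtype = Th ⊓ S) (hgen : ∀ g : G, ∃ t ∈ Th, ∃ x ∈ S, g = t * x) {s : T →* ℂˣ} {sh : Th →* ℂˣ}
    (hs : ∀ (t : T) (ht : ((t : S) : G) ∈ Th), sh ⟨t, ht⟩ = s t) (h2 : ∃ k : ℕ, ∀ t, sh t ^ 2 ^ k = 1)
    (hodd : Odd (orb Th Nh sh).ncard) (hodd' : Odd (orb T N s).ncard) (Ψ : Set (U →* ℂˣ))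
    (hΨ : ∀ ψ ∈ Ψ, Reg U T N ψ)
    (htr : ∀ ψ ∈ Ψ, ∀ ψ' ∈ Ψ, ∃ t ∈ Th, ∀ u v : U, ((v : S) : G) = t * u * t⁻¹ → ψ' u = ψ v)
    (hst : ∀ t ∈ Th, ∀ ψ ∈ Ψ, ∀ ψ' : U →* ℂˣ, (∀ u v : U, ((v : S) : G) = t * u * t⁻¹ → ψ' u = ψ v) → ψ' ∈ Ψ)
    {ψ₀ : U →* ℂˣ} (h0 : ψ₀ ∈ Ψ) {ψh : Uh →* ℂˣ} (hψh : Reg Uh Th Nh ψh)
    (he : ∀ (u : U) (hu : ((u : S) : G) ∈ Uh), ψh ⟨u, hu⟩ = ψ₀ u) :
    Odd (Nat.card {χ : IrrCharacter S // classInner (indFun h.B (fun x => (h.lin s x : ℂ))) (χ : S → ℂ) ≠ 0 ∧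
      ∃ ψ ∈ Ψ, classInner (indFun U (fun u => (ψ u : ℂ))) (χ : S → ℂ) ≠ 0}) := by
  classical
  -- the memberships
  have hUm : ∀ u : S, u ∈ U ↔ (u : G) ∈ Uh := by
    intro u
    rw [← hU]
    constructor
    · intro hu
      exact ⟨u, hu, rfl⟩
    · rintro ⟨v, hv, e⟩
      rwa [← Subtype.ext e]
  have hTm : ∀ t : S, t ∈ T ↔ (t : G) ∈ Th := by
    intro t
    constructor
    · intro ht
      have : ((t : S) : G) ∈ T.map S.subtype := ⟨t, ht, rfl⟩
      rw [hT] at this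
      exact this.1
    · intro ht
      have h1 : ((t : S) : G) ∈ T.map S.subtype := by
        rw [hT]; exact ⟨ht, t.2⟩
      obtain ⟨v, hv, e⟩ := h1
      rwa [← Subtype.ext e]
  -- conjugation by an element of `Th`
  have hconj : ∀ (t : G) (x : S), ((MulAut.conjNormal t : MulAut S) x : G) = t * x * t⁻¹ := fun t x =>
    MulAut.conjNormal_apply t x
  have hUc : ∀ t ∈ Th, ∀ x : S, x ∈ U ↔ (MulAut.conjNormal t : MulAut S) x ∈ U := by
    intro t ht x
    rw [hUm, hUm, hconj]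
    constructor
    · exact hh.TU t ht _
    · intro hx
      have h1 := hh.TU' ht hx
      have h3 : t⁻¹ * (t * (x : G) * t⁻¹) * t = x := by group
      rwa [h3] at h1
  have hTc : ∀ t ∈ Th, ∀ x : T, (MulAut.conjNormal t : MulAut S) (x : S) = x := by
    intro t ht x
    apply Subtype.ext
    rw [hconj, hh.comm t ht _ ((hTm _).1 x.2)]
    group
  have hBc : ∀ t ∈ Th, ∀ x : S, x ∈ h.B ↔ (MulAut.conjNormal t : MulAut S) x ∈ h.B := by
    have key : ∀ t ∈ Th, ∀ x : S, x ∈ h.B → (MulAut.conjNormal t : MulAut S) x ∈ h.B := by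
      rintro t ht x ⟨u, hu, r, hr, rfl⟩
      refine ⟨_, (hUc t ht u).1 hu, r, hr, ?_⟩
      rw [map_mul, hTc t ht ⟨r, hr⟩]
    intro t ht x
    refine ⟨key t ht x, fun hx => ?_⟩
    have h1 := key t⁻¹ (Th.inv_mem ht) _ hx
    have h3 : (MulAut.conjNormal t⁻¹ : MulAut S) ((MulAut.conjNormal t : MulAut S) x) = x := by
      apply Subtype.ext
      rw [hconj, hconj]
      group
    rwa [h3] at h1
  have hlinc : ∀ t ∈ Th, ∀ x y : h.B, (y : S) = (MulAut.conjNormal t : MulAut S) x →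
      (h.lin s x : ℂ) = (h.lin s y : ℂ) := by
    intro t ht x y hxy
    obtain ⟨u, hu, r, hr, e⟩ := x.2
    rw [h.lin_eq s (b := x) (t := ⟨r, hr⟩) hu e, h.lin_eq s (b := y) (t := ⟨r, hr⟩) ((hUc t ht u).1 hu) (by
      rw [hxy, e, map_mul, hTc t ht ⟨r, hr⟩])]
  -- the predicates
  let P1 : (S → ℂ) → Prop := fun φ => classInner (indFun h.B (fun x => (h.lin s x : ℂ))) φ ≠ 0
  let P2 : (S → ℂ) → Prop := fun φ => ∃ ψ ∈ Ψ, classInner (indFun U (fun u => (ψ u : ℂ))) φ ≠ 0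
  have hred : ∀ (φ : S → ℂ), IsClassFunction S φ → ∀ x : G, ∃ t ∈ Th,
      φ ∘ (MulAut.conjNormal x : MulAut S) = φ ∘ (MulAut.conjNormal t : MulAut S) := by
    intro φ hφ x
    obtain ⟨t, ht, y, hy, e⟩ := hgen x
    refine ⟨t, ht, ?_⟩
    rw [e, CharactersDeep.CliffordSum.comp_conjNormal_mul]
    refine conjNormal_self S ?_ hy
    intro g x
    rw [Function.comp_apply, Function.comp_apply, map_mul, map_mul, map_inv]
    exact hφ _ _
  have hP1 : ∀ (φ : S → ℂ), IsClassFunction S φ → ∀ x : G, P1 φ → P1 (φ ∘ (MulAut.conjNormal x : MulAut S)) := by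
    intro φ hφ x h1
    obtain ⟨t, ht, e⟩ := hred φ hφ x
    rw [e]
    change classInner _ _ ≠ 0
    rw [ind_auto (α := (MulAut.conjNormal t : MulAut S)) (hBc t ht) (hlinc t ht) hφ]
    exact h1
  -- the conjugate of a character of `U`
  have hcj : ∀ t ∈ Th, ∀ ψ : U →* ℂˣ, ∃ ψ' : U →* ℂˣ, ∀ u v : U, ((v : S) : G) = t * u * t⁻¹ → ψ' u = ψ v := by
    intro t ht ψ
    let f : U →* U :=
      { toFun := fun u => ⟨(MulAut.conjNormal t : MulAut S) (u : S), (hUc t ht _).1 u.2⟩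
        map_one' := Subtype.ext (map_one _)
        map_mul' := fun a b => Subtype.ext (map_mul _ _ _) }
    refine ⟨ψ.comp f, fun u v e => ?_⟩
    change ψ (f u) = ψ v
    congr 1
    apply Subtype.ext
    apply Subtype.ext
    change (((MulAut.conjNormal t : MulAut S) (u : S) : S) : G) = _
    rw [hconj, e]
  have hind : ∀ (φ : S → ℂ), IsClassFunction S φ → ∀ t ∈ Th, ∀ ψ ψ' : U →* ℂˣ,
      (∀ u v : U, ((v : S) : G) = t * u * t⁻¹ → ψ' u = ψ v) →
      classInner (indFun U (fun u => (ψ' u : ℂ))) (φ ∘ (MulAut.conjNormal t : MulAut S)) =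
        classInner (indFun U (fun u => (ψ u : ℂ))) φ := by
    intro φ hφ t ht ψ ψ' hψ
    refine ind_auto (α := (MulAut.conjNormal t : MulAut S)) (hUc t ht) (fun x y hxy => ?_) hφ
    rw [hψ x y]
    rw [hxy, hconj]
  have hP2 : ∀ (φ : S → ℂ), IsClassFunction S φ → ∀ x : G, P2 φ → P2 (φ ∘ (MulAut.conjNormal x : MulAut S)) := by
    rintro φ hφ x ⟨ψ, hψ, h1⟩
    obtain ⟨t, ht, e⟩ := hred φ hφ x
    rw [e]
    obtain ⟨ψ', hψ'⟩ := hcj t ht ψ
    refine ⟨ψ', hst t ht ψ hψ ψ' hψ', ?_⟩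
    rw [hind φ hφ t ht ψ ψ' hψ']
    exact h1
  -- the character of `G`
  obtain ⟨χh, hχ1, hχ2, -, hdeg, -, -⟩ := main hh hψh sh h2 hodd
  have hR : IsCharacter S (fun x : S => (χh : G → ℂ) x) :=
    Clifford.isCharacter_restrict S (Core.isIrr_isCharacter χh.2)
  -- the constituents
  have hBsub : ∀ b : h.B, ((b : S) : G) ∈ hh.B := by
    rintro ⟨b, u, hu, t, ht, rfl⟩
    exact ⟨u, (hUm u).1 hu, t, (hTm t).1 ht, rfl⟩
  let fB : h.B →* hh.B :=
    { toFun := fun b => ⟨((b : S) : G), hBsub b⟩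
      map_one' := rfl
      map_mul' := fun _ _ => rfl }
  let fU : U →* Uh :=
    { toFun := fun b => ⟨((b : S) : G), (hUm _).1 b.2⟩
      map_one' := rfl
      map_mul' := fun _ _ => rfl }
  have c1 : classInner (indFun h.B (fun x => (h.lin s x : ℂ))) (fun x : S => (χh : G → ℂ) x) ≠ 0 := by
    have := Fintype.ofFinite h.B
    have := Fintype.ofFinite hh.B
    rw [frob h.B _ (Core.isCharacter_isClassFunction hR)]
    have h3 : classInner (fun x => (hh.lin sh x : ℂ)) (fun x : hh.B => (χh : G → ℂ) x) ≠ 0 := by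
      rw [← frob hh.B _ (Core.isIrr_isClassFunction χh.2), hχ1]
      exact one_ne_zero
    have h4 := con_comp fB (Clifford.isCharacter_restrict hh.B (Core.isIrr_isCharacter χh.2)) (hh.lin sh) h3
    have h5 : (fun x => (hh.lin sh (fB x) : ℂ)) = fun x => (h.lin s x : ℂ) := by
      funext x
      obtain ⟨u, hu, r, hr, e⟩ := x.2
      rw [h.lin_eq s (b := x) (t := ⟨r, hr⟩) hu e, hh.lin_eq sh (b := fB x) (t := ⟨(r : G), (hTm r).1 hr⟩)
        ((hUm u).1 hu) (by
          change ((x : S) : G) = _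
          rw [e]; rfl)]
      rw [hs ⟨r, hr⟩]
    rw [h5] at h4
    exact h4
  have c2 : classInner (indFun U (fun x => (ψ₀ x : ℂ))) (fun x : S => (χh : G → ℂ) x) ≠ 0 := by
    have := Fintype.ofFinite U
    have := Fintype.ofFinite Uh
    rw [frob U _ (Core.isCharacter_isClassFunction hR)]
    have h3 : classInner (fun x => (ψh x : ℂ)) (fun x : Uh => (χh : G → ℂ) x) ≠ 0 := by
      rw [← frob Uh _ (Core.isIrr_isClassFunction χh.2), hχ2]
      exact one_ne_zero
    have h4 := con_comp fU (Clifford.isCharacter_restrict Uh (Core.isIrr_isCharacter χh.2)) ψh h3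
    have h5 : (fun x => (ψh (fU x) : ℂ)) = fun x => (ψ₀ x : ℂ) := by
      funext x
      rw [← he x ((hUm _).1 x.2)]
      rfl
    rw [h5] at h4
    exact h4
  obtain ⟨φ₀, hφ₀, hRφ₀⟩ := exists_con (OddOrderCharacters.PF9.MackeyIrr.isCharacter_ind h.B (h.lin s)) hR c1
  obtain ⟨φ₁, hφ₁, hRφ₁⟩ := exists_con (OddOrderCharacters.PF9.MackeyIrr.isCharacter_ind U ψ₀) hR c2
  obtain ⟨g₁, hg₁⟩ := Clifford.exists_conj_of_constituents S χh.2 φ₀.2 φ₁.2 hRφ₀ hRφ₁
  obtain ⟨g₀, hg₀⟩ := Clifford.exists_conj_of_constituents S χh.2 φ₁.2 φ₀.2 hRφ₁ hRφ₀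
  have q1 : P1 (φ₀ : S → ℂ) := hφ₀
  have q2 : P2 (φ₀ : S → ℂ) := by
    rw [hg₀]
    exact hP2 _ (Core.isIrr_isClassFunction φ₁.2) _ ⟨ψ₀, h0, hφ₁⟩
  have q3 : P1 (φ₁ : S → ℂ) := by
    rw [hg₁]
    exact hP1 _ (Core.isIrr_isClassFunction φ₀.2) _ q1
  -- the characters in question are the conjugates of `φ₀`
  have h2' : ∃ k : ℕ, ∀ t, s t ^ 2 ^ k = 1 := by
    obtain ⟨k, hk⟩ := h2
    exact ⟨k, fun t => by rw [← hs t ((hTm _).1 t.2)]; exact hk _⟩
  let I : Finset (S → ℂ) := Finset.univ.image (fun x : G => (φ₀ : S → ℂ) ∘ (MulAut.conjNormal x : MulAut S))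
  have hI : ∀ φ : IrrCharacter S, (φ : S → ℂ) ∈ I ↔ P1 (φ : S → ℂ) ∧ P2 (φ : S → ℂ) := by
    intro φ
    constructor
    · intro hφ
      obtain ⟨x, -, e⟩ := Finset.mem_image.1 hφ
      rw [← e]
      exact ⟨hP1 _ (Core.isIrr_isClassFunction φ₀.2) _ q1, hP2 _ (Core.isIrr_isClassFunction φ₀.2) _ q2⟩
    · rintro ⟨h3, ψ, hψ, h4⟩
      obtain ⟨t, ht, htψ⟩ := htr ψ₀ h0 ψ hψ
      obtain ⟨χ, -, -, huniq, -⟩ := main h (hΨ ψ hψ) s h2' hodd'
      let φ₂ : IrrCharacter S := ⟨(φ₁ : S → ℂ) ∘ (MulAut.conjNormal t : MulAut S),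
        Clifford.isIrr_conjNormal φ₁.2 t⟩
      have e1 := huniq φ h3 h4
      have e2 : φ₂ = χ := huniq φ₂ (hP1 _ (Core.isIrr_isClassFunction φ₁.2) t q3) (by
        change classInner (indFun U (fun x => (ψ x : ℂ))) ((φ₁ : S → ℂ) ∘ (MulAut.conjNormal t : MulAut S)) ≠ 0
        rw [hind _ (Core.isIrr_isClassFunction φ₁.2) t ht ψ₀ ψ htψ]
        exact hφ₁)
      have e3 : (φ : S → ℂ) = (φ₀ : S → ℂ) ∘ (MulAut.conjNormal (g₁ * t) : MulAut S) := by
        rw [e1, ← e2, CharactersDeep.CliffordSum.comp_conjNormal_mul, ← hg₁]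
      rw [e3]
      exact Finset.mem_image_of_mem _ (Finset.mem_univ _)
  have hcard : Nat.card {χ : IrrCharacter S // classInner (indFun h.B (fun x => (h.lin s x : ℂ))) (χ : S → ℂ) ≠ 0 ∧
      ∃ ψ ∈ Ψ, classInner (indFun U (fun u => (ψ u : ℂ))) (χ : S → ℂ) ≠ 0} = I.card := by
    rw [← Nat.card_eq_finsetCard I]
    refine Nat.card_congr ⟨fun χ => ⟨(χ.1 : S → ℂ), (hI χ.1).2 χ.2⟩,
      fun φ => ⟨⟨φ.1, ?_⟩, ?_⟩, fun _ => rfl, fun _ => rfl⟩
    · obtain ⟨x, -, e⟩ := Finset.mem_image.1 φ.2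
      rw [← e]
      exact Clifford.isIrr_conjNormal φ₀.2 x
    · exact (hI _).1 φ.2
  rw [hcard]
  have hsum := CharactersDeep.CliffordSum.restrict_eq_smul_sum S χh.2 φ₀.2 hRφ₀
  obtain ⟨e, hee⟩ := Core.classInner_isNat hR (Core.isIrr_isCharacter φ₀.2)
  obtain ⟨d, hd⟩ := Core.isCharacter_apply_one (Core.isIrr_isCharacter φ₀.2)
  have h1 := congrFun hsum 1
  rw [hee, Pi.smul_apply, Finset.sum_apply, Finset.sum_congr rfl (g := fun _ => (d : ℂ)) (by
    intro ψ hψ
    obtain ⟨x, -, rfl⟩ := Finset.mem_image.1 hψ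
    rw [Function.comp_apply, map_one, hd]), Finset.sum_const, smul_eq_mul, nsmul_eq_mul] at h1
  have h3 : (χh : G → ℂ) 1 = ((e * (I.card * d) : ℕ) : ℂ) := by
    rw [Subgroup.coe_one] at h1
    rw [h1]
    push_cast
    rfl
  have h4 : charDegree (χh : G → ℂ) = e * (I.card * d) := by
    unfold charDegree
    rw [h3]
    simp only [Complex.natCast_re, Nat.floor_natCast]
  rw [h4] at hdeg
  exact (Nat.odd_mul.1 (Nat.odd_mul.1 hdeg).2).1

end Cfsg.Agent.H150.Toral
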