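import Cfsg.Agent.H150.Toral.Count
import Cfsg.Agent.Characters.CCBasic

/-!
# The toral lemma: the common constituent and its restriction to `B`
-/

set_option autoImplicit false

namespace Cfsg.Agent.H150.Toral

open Cfsg Subgroup
open scoped ComplexConjugate
open Cfsg.Agent.Characters
open Cfsg.Agent.OddOrderCharacters.PF9

universe u

/-- a unique common constituent -/
theorem exists_common {G : Type*} [Group G] [Fintype G] {X Y : G → ℂ} (hX : IsCharacter G X) (hY : IsCharacter G Y)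
    (h1 : classInner X Y = 1) : ∃ χ : IrrCharacter G, classInner X (χ : G → ℂ) = 1 ∧
      classInner Y (χ : G → ℂ) = 1 ∧
      ∀ χ' : IrrCharacter G, classInner X (χ' : G → ℂ) ≠ 0 → classInner Y (χ' : G → ℂ) ≠ 0 → χ' = χ := by
  classical
  have := Core.finite_irr (G := G)
  have := Fintype.ofFinite (IrrCharacter G)
  choose m hm using fun χ : IrrCharacter G => Core.classInner_isNat hX (Core.isIrr_isCharacter χ.2)
  choose n hn using fun χ : IrrCharacter G => Core.classInner_isNat hY (Core.isIrr_isCharacter χ.2)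
  rw [Core.classInner_eq_sum (Core.isCharacter_isClassFunction hX) (Core.isCharacter_isClassFunction hY)] at h1
  have h2 : ∑ χ : IrrCharacter G, m χ * n χ = 1 := by
    have h3 : ((∑ χ : IrrCharacter G, m χ * n χ : ℕ) : ℂ) = 1 := by
      rw [← h1]
      push_cast
      refine Finset.sum_congr rfl fun χ _ => ?_
      rw [hm, hn, Complex.conj_natCast]
    exact_mod_cast h3
  obtain ⟨χ, -, hχ⟩ : ∃ χ ∈ Finset.univ, m χ * n χ ≠ 0 := by
    apply Finset.exists_ne_zero_of_sum_ne_zero
    rw [h2]; exact one_ne_zero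
  have h4 := Finset.add_sum_erase Finset.univ (fun χ => m χ * n χ) (Finset.mem_univ χ)
  have h6 : m χ * n χ + ∑ x ∈ Finset.univ.erase χ, m x * n x = 1 := by rw [← h2]; exact h4
  have h5 : m χ * n χ = 1 ∧ ∑ x ∈ Finset.univ.erase χ, m x * n x = 0 := by
    have : 0 < m χ * n χ := Nat.pos_of_ne_zero hχ
    omega
  have h7 : m χ = 1 ∧ n χ = 1 := ⟨Nat.eq_one_of_mul_eq_one_right h5.1, Nat.eq_one_of_mul_eq_one_left h5.1⟩
  refine ⟨χ, by rw [hm, h7.1, Nat.cast_one], by rw [hn, h7.2, Nat.cast_one], fun χ' hX' hY' => ?_⟩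
  by_contra hne
  have h8 := (Finset.sum_eq_zero_iff.1 h5.2) χ' (Finset.mem_erase.2 ⟨hne, Finset.mem_univ _⟩)
  rw [hm] at hX'
  rw [hn] at hY'
  rcases mul_eq_zero.1 h8 with h9 | h9
  · exact hX' (by rw [h9, Nat.cast_zero])
  · exact hY' (by rw [h9, Nat.cast_zero])

/-- orthogonal characters have no common constituent -/
theorem no_common {G : Type*} [Group G] [Fintype G] {X Y : G → ℂ} (hX : IsCharacter G X) (hY : IsCharacter G Y)
    (h1 : classInner X Y = 0) (χ : IrrCharacter G) (hχ : classInner Y (χ : G → ℂ) ≠ 0) :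
    classInner X (χ : G → ℂ) = 0 := by
  classical
  have := Core.finite_irr (G := G)
  have := Fintype.ofFinite (IrrCharacter G)
  choose m hm using fun χ : IrrCharacter G => Core.classInner_isNat hX (Core.isIrr_isCharacter χ.2)
  choose n hn using fun χ : IrrCharacter G => Core.classInner_isNat hY (Core.isIrr_isCharacter χ.2)
  rw [Core.classInner_eq_sum (Core.isCharacter_isClassFunction hX) (Core.isCharacter_isClassFunction hY)] at h1
  have h2 : ∑ χ : IrrCharacter G, m χ * n χ = 0 := by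
    have h3 : ((∑ χ : IrrCharacter G, m χ * n χ : ℕ) : ℂ) = 0 := by
      rw [← h1]
      push_cast
      refine Finset.sum_congr rfl fun χ _ => ?_
      rw [hm, hn, Complex.conj_natCast]
    exact_mod_cast h3
  have h8 := (Finset.sum_eq_zero_iff.1 h2) χ (Finset.mem_univ _)
  rw [hn] at hχ
  rcases mul_eq_zero.1 h8 with h9 | h9
  · rw [hm, h9, Nat.cast_zero]
  · exact absurd (by rw [h9, Nat.cast_zero]) hχ

namespace Sys

variable {S : Type u} [Group S] {U T N : Subgroup S}

/-- the principal series character -/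
noncomputable def X [Fintype S] (h : Sys U T N) (s : T →* ℂˣ) : S → ℂ := indFun h.B (fun x => (h.lin s x : ℂ))

theorem isCharacter_X [Fintype S] (h : Sys U T N) (s : T →* ℂˣ) : IsCharacter S (h.X s) :=
  MackeyIrr.isCharacter_ind _ _

theorem inner_X [Fintype S] (h : Sys U T N) (s t : T →* ℂˣ) : classInner (h.X s) (h.X t) = h.cc s t := h.inner_BB s t

theorem orb_symm (h : Sys U T N) {s t : T →* ℂˣ} (hst : s ∈ orb T N t) : t ∈ orb T N s := by
  obtain ⟨n, hn, hc⟩ := hst
  exact ⟨n⁻¹, N.inv_mem hn, h.isConjBy_inv hn hc⟩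

theorem orb_self (s : T →* ℂˣ) : s ∈ orb T N s := ⟨1, N.one_mem, isConjBy_one s⟩

theorem orb_trans (h : Sys U T N) {s t r : T →* ℂˣ} (h1 : s ∈ orb T N t) (h2 : t ∈ orb T N r) : s ∈ orb T N r := by
  obtain ⟨n, hn, hc⟩ := h1
  obtain ⟨m, hm, hc'⟩ := h2
  exact ⟨n * m, N.mul_mem hn hm, h.isConjBy_mul hn hc' hc⟩

/-- **Conjugate linear characters give the same principal series character.** -/
theorem X_eq [Fintype S] (h : Sys U T N) {s t : T →* ℂˣ} (hst : s ∈ orb T N t) : h.X s = h.X t := by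
  have h1 : classInner (h.X s - h.X t) (h.X s - h.X t) = 0 := by
    rw [Core.classInner_sub_left, Core.classInner_sub_right, Core.classInner_sub_right, h.inner_X, h.inner_X,
      h.inner_X, h.inner_X, h.cc_eq hst, h.cc_eq (h.orb_symm hst)]
    ring
  exact sub_eq_zero.1 (Core.classInner_self_eq_zero h1)

theorem inner_X_eq_zero [Fintype S] (h : Sys U T N) {s t : T →* ℂˣ} (hst : s ∉ orb T N t) :
    classInner (h.X s) (h.X t) = 0 := by
  rw [h.inner_X, h.cc_eq_zero hst, Nat.cast_zero]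

/-- the multiplicities -/
theorem mult [Fintype S] (h : Sys U T N) {s : T →* ℂˣ} {χ : IrrCharacter S}
    (hχ : classInner (h.X s) (χ : S → ℂ) = 1) (t : T →* ℂˣ) [Decidable (t ∈ orb T N s)] :
    classInner (h.X t) (χ : S → ℂ) = if t ∈ orb T N s then 1 else 0 := by
  split_ifs with ht
  · rw [h.X_eq ht, hχ]
  · exact no_common (h.isCharacter_X t) (h.isCharacter_X s) (h.inner_X_eq_zero ht) χ (by rw [hχ]; exact one_ne_zero)

/-- `U × T ≃ B` -/
noncomputable def prodEquiv (h : Sys U T N) : U × T ≃ h.B where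
  toFun x := ⟨(x.1 : S) * x.2, h.mem_B.2 ⟨x.1, x.1.2, x.2, x.2.2, rfl⟩⟩
  invFun b := (⟨b * (h.pr b : S)⁻¹, by
    obtain ⟨u, hu, e⟩ := h.pr_spec b
    have h1 : (b : S) * (h.pr b : S)⁻¹ = u := mul_inv_eq_iff_eq_mul.2 e
    rw [h1]; exact hu⟩, h.pr b)
  left_inv x := by
    have h1 : h.pr ⟨(x.1 : S) * x.2, h.mem_B.2 ⟨x.1, x.1.2, x.2, x.2.2, rfl⟩⟩ = x.2 := h.pr_eq x.1.2 rfl
    refine Prod.ext (Subtype.ext ?_) h1
    change (x.1 : S) * x.2 * (h.pr ⟨(x.1 : S) * x.2, h.mem_B.2 ⟨x.1, x.1.2, x.2, x.2.2, rfl⟩⟩ : S)⁻¹ = x.1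
    rw [h1]
    group
  right_inv b := Subtype.ext (by
    change (b : S) * (h.pr b : S)⁻¹ * h.pr b = b
    group)

/-- the trace of `t` on the `U`-fixed points -/
noncomputable def cof [Fintype U] (_h : Sys U T N) (χ : S → ℂ) (t : T) : ℂ :=
  (Nat.card U : ℂ)⁻¹ * ∑ v : U, χ (v * t)

theorem inner_cof [Fintype S] [Fintype U] [Fintype T] (h : Sys U T N) {χ : S → ℂ} (hχ : IsClassFunction S χ)
    (s : T →* ℂˣ) : classInner (fun x : T => (s x : ℂ)) (h.cof χ) = classInner (h.X s) χ := by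
  classical
  have := Fintype.ofFinite h.B
  unfold X
  rw [S0150.classInner_indFun h.B _ _ hχ]
  change (Nat.card T : ℂ)⁻¹ * ∑ x : T, (s x : ℂ) * conj ((Nat.card U : ℂ)⁻¹ * ∑ v : U, χ (v * x)) =
    (Nat.card h.B : ℂ)⁻¹ * ∑ b : h.B, (h.lin s b : ℂ) * conj (χ b)
  have h1 : Nat.card h.B = Nat.card U * Nat.card T := by
    rw [← Nat.card_congr h.prodEquiv, Nat.card_prod]
  have h2 : ∑ b : h.B, (h.lin s b : ℂ) * conj (χ b) = ∑ x : T, ∑ v : U, (s x : ℂ) * conj (χ (v * x)) := by
    rw [← Equiv.sum_comp h.prodEquiv, Fintype.sum_prod_type, Finset.sum_comm]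
    refine Finset.sum_congr rfl fun x _ => Finset.sum_congr rfl fun v _ => ?_
    rw [h.lin_eq s (b := h.prodEquiv (v, x)) (t := x) v.2 rfl]
    rfl
  rw [h1, h2, Nat.cast_mul, mul_inv, mul_comm (Nat.card U : ℂ)⁻¹, mul_assoc, Finset.mul_sum (a := (Nat.card U : ℂ)⁻¹)]
  congr 1
  refine Finset.sum_congr rfl fun x _ => ?_
  rw [map_mul, map_inv₀, Complex.conj_natCast, map_sum, Finset.mul_sum, Finset.mul_sum, Finset.mul_sum]
  refine Finset.sum_congr rfl fun v _ => ?_
  ring

theorem finite_orb [Finite S] (h : Sys U T N) (s : T →* ℂˣ) : (orb T N s).Finite := by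
  apply (Set.finite_range (fun n : N => s.comp (h.cj n.2))).subset
  rintro t ⟨n, hn, hc⟩
  exact ⟨⟨n, hn⟩, ((h.isConjBy_iff hn).1 hc).symm⟩

/-- **The restriction**: the `U`-fixed points afford the sum of the orbit. -/
theorem cof_eq [Fintype S] [Fintype U] [Fintype T] (h : Sys U T N) {s : T →* ℂˣ} {χ : IrrCharacter S}
    (hχ : classInner (h.X s) (χ : S → ℂ) = 1) (x : T) :
    h.cof (χ : S → ℂ) x = ∑ t ∈ (h.finite_orb s).toFinset, (t x : ℂ) := by
  classical
  have hab : ∀ a b : T, a * b = b * a := fun a b => Subtype.ext (h.comm a a.2 b b.2)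
  have hcl : ∀ f : T → ℂ, IsClassFunction T f := by
    intro f g x
    congr 1
    rw [hab x g, mul_inv_cancel_right]
  have h1 : h.cof (χ : S → ℂ) = ∑ t ∈ (h.finite_orb s).toFinset, (fun x : T => (t x : ℂ)) := by
    apply Core.classFunction_ext (hcl _) (hcl _)
    intro η hη
    obtain ⟨l, rfl⟩ := CCBasic.exists_hom_of_comm hab hη
    rw [← Core.classInner_conj_symm, h.inner_cof (Core.isIrr_isClassFunction χ.2), h.mult hχ l,
      Core.classInner_sum_left]
    have h2 : ∀ t : T →* ℂˣ, classInner (fun x : T => (t x : ℂ)) (fun x : T => (l x : ℂ)) =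
        if t = l then 1 else 0 := by
      intro t
      have ht : IsIrrCharacter T (fun x : T => (t x : ℂ)) := (Linear.isIrrCharacter_degree_one_iff.2 ⟨t, rfl⟩).1
      rw [Core.classInner_irr ht hη]
      congr 1
      apply propext
      constructor
      · intro hh
        ext x
        exact congrFun hh x
      · rintro rfl; rfl
    rw [Finset.sum_congr rfl fun t _ => h2 t, Finset.sum_ite_eq']
    simp only [Set.Finite.mem_toFinset]
    split_ifs <;> simp
  rw [h1, Finset.sum_apply]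

end Sys

end Cfsg.Agent.H150.Toral
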