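import Cfsg.Agent.OddOrderCharacters.PF9.Mackey

/-!
# Mackey's formula for the inner product of two characters induced from linear characters (exact count)
-/

set_option autoImplicit false

namespace Cfsg.Agent.H150.Toral

open Cfsg
open scoped ComplexConjugate
open Cfsg.Agent.OddOrderCharacters.PF9.Mackey (mul_conj_lin extendByZero_mul)

universe u

section

variable {L : Type u} [Group L]

/-- `ξ` and the conjugate of `ξ'` by `g` agree on `A ∩ gBg⁻¹` -/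
def Good (A B : Subgroup L) (ξ : A →* ℂˣ) (ξ' : B →* ℂˣ) (g : L) : Prop :=
  ∀ (a : A) (b : B), (b : L) = g⁻¹ * a * g → ξ a = ξ' b

theorem hom_conj {B : Subgroup L} (ξ : B →* ℂˣ) (b c : B) : ξ (c⁻¹ * b * c) = ξ b := by
  rw [map_mul, map_mul, map_inv, mul_comm, mul_inv_cancel_left]

theorem good_mul_iff {A B : Subgroup L} {ξ : A →* ℂˣ} {ξ' : B →* ℂˣ} {g : L} (a₀ : A) (b₀ : B) :
    Good A B ξ ξ' (a₀ * g * b₀) ↔ Good A B ξ ξ' g := by
  have key : ∀ (g : L) (a₀ : A) (b₀ : B), Good A B ξ ξ' g → Good A B ξ ξ' (a₀ * g * b₀) := by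
    intro g a₀ b₀ h a b hab
    have h1 : ((b₀ * b * b₀⁻¹ : B) : L) = g⁻¹ * (a₀⁻¹ * a * a₀ : A) * g := by
      push_cast
      rw [hab]; group
    have h2 := h _ _ h1
    rw [hom_conj] at h2
    rw [h2, map_mul, map_mul, map_inv, mul_comm, inv_mul_cancel_left]
  refine ⟨fun h => ?_, key g a₀ b₀⟩
  have h1 := key _ a₀⁻¹ b₀⁻¹ h
  have h2 : ((a₀⁻¹ : A) : L) * (a₀ * g * b₀) * ((b₀⁻¹ : B) : L) = g := by
    push_cast; group
  rwa [h2] at h1

variable [Fintype L]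

/-- the Mackey term of `g` -/
noncomputable def mterm (A B : Subgroup L) (ξ : A →* ℂˣ) (ξ' : B →* ℂˣ) (g : L) : ℂ :=
  haveI := Fintype.ofFinite A
  ∑ a : A, (ξ a : ℂ) * conj (extendByZero B (fun x => (ξ' x : ℂ)) (g⁻¹ * a * g))

theorem mterm_of_good {A B : Subgroup L} {ξ : A →* ℂˣ} {ξ' : B →* ℂˣ} {g : L} (h : Good A B ξ ξ' g) :
    mterm A B ξ ξ' g = (Nat.card {a : A // g⁻¹ * (a : L) * g ∈ B} : ℂ) := by
  classical
  have := Fintype.ofFinite A
  have h1 : mterm A B ξ ξ' g = ∑ a : A, if g⁻¹ * (a : L) * g ∈ B then (1 : ℂ) else 0 := by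
    unfold mterm
    refine Finset.sum_congr (by ext; simp) fun a _ => ?_
    by_cases ha : g⁻¹ * (a : L) * g ∈ B
    · rw [if_pos ha]
      have h2 := S0150.extendByZero_coe B (fun x => (ξ' x : ℂ)) ⟨_, ha⟩
      have h3 := h a ⟨_, ha⟩ rfl
      simp only at h2
      rw [h2, ← h3, mul_conj_lin]
    · rw [if_neg ha, S0150.extendByZero_of_notMem _ _ ha, map_zero, mul_zero]
  rw [h1, Finset.sum_boole, Nat.card_eq_fintype_card, Fintype.card_subtype]

theorem mterm_of_not_good {A B : Subgroup L} {ξ : A →* ℂˣ} {ξ' : B →* ℂˣ} {g : L} (h : ¬ Good A B ξ ξ' g) :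
    mterm A B ξ ξ' g = 0 := by
  classical
  have := Fintype.ofFinite A
  unfold Good at h
  push Not at h
  obtain ⟨a₀, b₀, hb₀, hne⟩ := h
  have hm : mterm A B ξ ξ' g = ∑ a : A, (ξ a : ℂ) * conj (extendByZero B (fun x => (ξ' x : ℂ)) (g⁻¹ * a * g)) := by
    unfold mterm
    exact Finset.sum_congr (by ext; simp) fun a _ => rfl
  rw [hm]
  set M := ∑ a : A, (ξ a : ℂ) * conj (extendByZero B (fun x => (ξ' x : ℂ)) (g⁻¹ * a * g))
    with hS
  have h1 : M = (ξ a₀ : ℂ) * conj (ξ' b₀ : ℂ) * M := by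
    calc M = ∑ a : A, (ξ (a₀ * a) : ℂ) *
          conj (extendByZero B (fun x => (ξ' x : ℂ)) (g⁻¹ * (a₀ * a : A) * g)) :=
          (Fintype.sum_equiv (Equiv.mulLeft a₀) _ _ (fun a => rfl)).symm
      _ = ∑ a : A, (ξ a₀ : ℂ) * conj (ξ' b₀ : ℂ) * ((ξ a : ℂ) *
          conj (extendByZero B (fun x => (ξ' x : ℂ)) (g⁻¹ * a * g))) := by
          refine Finset.sum_congr rfl fun a _ => ?_
          have h2 : g⁻¹ * ((a₀ * a : A) : L) * g = (b₀ : L) * (g⁻¹ * a * g) := by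
            rw [hb₀, Subgroup.coe_mul]; group
          rw [h2, extendByZero_mul, map_mul, map_mul, Units.val_mul]
          ring
      _ = _ := by rw [← Finset.mul_sum]
  by_contra hS0
  apply hne
  have h3 : (ξ a₀ : ℂ) * conj (ξ' b₀ : ℂ) = 1 := by
    have : ((ξ a₀ : ℂ) * conj (ξ' b₀ : ℂ) - 1) * M = 0 := by
      rw [sub_mul, one_mul, ← h1, sub_self]
    rcases mul_eq_zero.mp this with h4 | h4
    · exact sub_eq_zero.mp h4
    · exact absurd h4 hS0
  have h5 := mul_conj_lin ξ' b₀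
  apply Units.ext
  have h6 : conj (ξ' b₀ : ℂ) ≠ 0 := by
    intro h0; rw [h0, mul_zero] at h5; exact zero_ne_one h5
  exact mul_right_cancel₀ h6 (h3.trans h5.symm)

theorem inner_eq_mterm (A B : Subgroup L) (ξ : A →* ℂˣ) (ξ' : B →* ℂˣ) :
    classInner (indFun A (fun x => (ξ x : ℂ))) (indFun B (fun x => (ξ' x : ℂ))) =
      (Nat.card A : ℂ)⁻¹ * (Nat.card B : ℂ)⁻¹ * ∑ g : L, mterm A B ξ ξ' g := by
  classical
  have := Fintype.ofFinite A
  rw [S0150.classInner_indFun A _ _ (fun g x => S0150.indFun_isClassFunction B _ g x)]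
  change (Nat.card A : ℂ)⁻¹ * ∑ a : A, (ξ a : ℂ) * conj (indFun B (fun x => (ξ' x : ℂ)) a) = _
  rw [mul_assoc]
  congr 1
  rw [Finset.mul_sum]
  calc ∑ a : A, (ξ a : ℂ) * conj (indFun B (fun x => (ξ' x : ℂ)) a)
      = ∑ a : A, ∑ g : L, ((Nat.card B : ℂ)⁻¹) * ((ξ a : ℂ) *
          conj (extendByZero B (fun x => (ξ' x : ℂ)) (g⁻¹ * a * g))) := by
        refine Finset.sum_congr rfl fun a _ => ?_
        rw [S0150.indFun_apply, map_mul, map_sum, Finset.mul_sum, Finset.mul_sum]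
        refine Finset.sum_congr rfl fun g _ => ?_
        rw [map_inv₀, Complex.conj_natCast]
        ring
    _ = ∑ g : L, (Nat.card B : ℂ)⁻¹ * mterm A B ξ ξ' g := by
        rw [Finset.sum_comm]
        refine Finset.sum_congr rfl fun g _ => ?_
        unfold mterm
        rw [Finset.mul_sum]
        exact Finset.sum_congr (by ext; simp) fun a _ => rfl

omit [Fintype L] in
/-- the number of ways to write `g` in `A R B` -/
theorem card_fibre (A B : Subgroup L) {ι : Type*} (R : ι → L)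
    (cov : ∀ g : L, ∃ i, ∃ a ∈ A, ∃ b ∈ B, g = a * R i * b)
    (inj : ∀ i j, ∀ a ∈ A, ∀ b ∈ B, R j = a * R i * b → i = j) (g : L) :
    Nat.card {x : ι × A × B // (x.2.1 : L) * R x.1 * x.2.2 = g} = Nat.card {a : A // g⁻¹ * (a : L) * g ∈ B} := by
  obtain ⟨i₀, a₀, ha₀, b₀, hb₀, h0⟩ := cov g
  have huniq : ∀ i, ∀ a ∈ A, ∀ b ∈ B, a * R i * b = g → i = i₀ := by
    intro i a ha b hb hh
    refine inj i i₀ (a₀⁻¹ * a) (A.mul_mem (A.inv_mem ha₀) ha) (b * b₀⁻¹) (B.mul_mem hb (B.inv_mem hb₀)) ?_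
    have h1 : R i₀ = a₀⁻¹ * g * b₀⁻¹ := by rw [h0]; group
    rw [h1, ← hh]; group
  have h3 : ∀ (i : ι) (a : A) (b : B), (a : L) * R i * b = g → g⁻¹ * ((a : L) * a₀⁻¹) * g = (b : L)⁻¹ * b₀ := by
    intro i a b hx
    obtain rfl := huniq i a a.2 b b.2 hx
    calc g⁻¹ * ((a : L) * a₀⁻¹) * g = ((a : L) * R i * b)⁻¹ * a * (a₀⁻¹ * (a₀ * R i * b₀)) := by
          rw [hx, ← h0]; group
      _ = _ := by group
  apply Nat.card_congr
  refine ⟨fun x => ⟨x.1.2.1 * (⟨a₀, ha₀⟩ : A)⁻¹, ?_⟩,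
    fun a => ⟨(i₀, a.1 * ⟨a₀, ha₀⟩, ⟨b₀, hb₀⟩ * (⟨g⁻¹ * (a.1 : L) * g, a.2⟩ : B)⁻¹), ?_⟩, ?_, ?_⟩
  · have h1 := h3 _ _ _ x.2
    push_cast
    rw [h1]
    exact B.mul_mem (B.inv_mem x.1.2.2.2) hb₀
  · push_cast
    calc (a.1 : L) * a₀ * R i₀ * (b₀ * (g⁻¹ * (a.1 : L) * g)⁻¹)
        = (a.1 : L) * (a₀ * R i₀ * b₀) * (g⁻¹ * (a.1 : L)⁻¹ * g) := by group
      _ = (a.1 : L) * g * (g⁻¹ * (a.1 : L)⁻¹ * g) := by rw [← h0]
      _ = g := by group
  · rintro ⟨⟨i, a, b⟩, hx⟩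
    have h1 := h3 _ _ _ hx
    have h2 := huniq i a a.2 b b.2 hx
    apply Subtype.ext
    refine Prod.ext h2.symm (Prod.ext (Subtype.ext ?_) (Subtype.ext ?_))
    · push_cast; group
    · push_cast
      rw [h1]; group
  · rintro ⟨a, ha⟩
    apply Subtype.ext
    apply Subtype.ext
    push_cast
    group

/-- **Mackey's formula.** -/
theorem mackey (A B : Subgroup L) {ι : Type*} [Finite ι] (R : ι → L)
    (cov : ∀ g : L, ∃ i, ∃ a ∈ A, ∃ b ∈ B, g = a * R i * b)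
    (inj : ∀ i j, ∀ a ∈ A, ∀ b ∈ B, R j = a * R i * b → i = j) (ξ : A →* ℂˣ) (ξ' : B →* ℂˣ) :
    classInner (indFun A (fun x => (ξ x : ℂ))) (indFun B (fun x => (ξ' x : ℂ))) =
      (Nat.card {i : ι // Good A B ξ ξ' (R i)} : ℂ) := by
  classical
  have := Fintype.ofFinite A
  have := Fintype.ofFinite B
  have := Fintype.ofFinite ι
  rw [inner_eq_mterm]
  have h1 : ∀ g : L, mterm A B ξ ξ' g = ∑ x : ι × A × B,
      if (x.2.1 : L) * R x.1 * x.2.2 = g then (if Good A B ξ ξ' g then (1 : ℂ) else 0) else 0 := by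
    intro g
    by_cases hg : Good A B ξ ξ' g
    · rw [mterm_of_good hg, ← card_fibre A B R cov inj g, if_pos hg, Finset.sum_boole, Nat.card_eq_fintype_card,
        Fintype.card_subtype]
    · rw [mterm_of_not_good hg, if_neg hg]
      simp
  have h2 : ∑ g : L, mterm A B ξ ξ' g = ∑ x : ι × A × B, if Good A B ξ ξ' (R x.1) then (1 : ℂ) else 0 := by
    rw [Finset.sum_congr rfl fun g _ => h1 g, Finset.sum_comm]
    refine Finset.sum_congr rfl fun x _ => ?_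
    rw [Finset.sum_ite_eq Finset.univ ((x.2.1 : L) * R x.1 * x.2.2), if_pos (Finset.mem_univ _)]
    simp only [good_mul_iff]
  have h3 : ∑ x : ι × A × B, (if Good A B ξ ξ' (R x.1) then (1 : ℂ) else 0) =
      (Nat.card A : ℂ) * (Nat.card B : ℂ) * (Nat.card {i : ι // Good A B ξ ξ' (R i)} : ℂ) := by
    rw [Fintype.sum_prod_type]
    have h4 : ∀ i : ι, (∑ _y : A × B, if Good A B ξ ξ' (R i) then (1 : ℂ) else 0) =
        ((Nat.card A : ℂ) * (Nat.card B : ℂ)) * (if Good A B ξ ξ' (R i) then (1 : ℂ) else 0) := by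
      intro i
      rw [Finset.sum_const, Finset.card_univ, Fintype.card_prod, nsmul_eq_mul, Nat.card_eq_fintype_card,
        Nat.card_eq_fintype_card, Nat.cast_mul]
    rw [Finset.sum_congr rfl fun i _ => h4 i, ← Finset.mul_sum, Finset.sum_boole,
      Nat.card_eq_fintype_card (α := {i : ι // Good A B ξ ξ' (R i)}), Fintype.card_subtype]
  rw [h2, h3]
  have hA : (Nat.card A : ℂ) ≠ 0 := by exact_mod_cast Nat.card_pos.ne'
  have hB : (Nat.card B : ℂ) ≠ 0 := by exact_mod_cast Nat.card_pos.ne'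
  field_simp

end

end Cfsg.Agent.H150.Toral
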