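import Cfsg.Agent.H150.Toral.Def
import Cfsg.Agent.H150.Toral.Mackey
import Cfsg.Agent.OddOrderCharacters.PF9.MackeyIrr

/-!
# The toral lemma: the Mackey counts
-/

set_option autoImplicit false

namespace Cfsg.Agent.H150.Toral

open Cfsg Subgroup
open Cfsg.Agent.Characters

universe u

namespace Sys

variable {S : Type u} [Group S] {U T N : Subgroup S}

/-- representatives of the cosets `nT` -/
noncomputable def rp (N T : Subgroup S) (i : N ⧸ T.subgroupOf N) : S := ((Quotient.out i : N) : S)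

theorem rp_mem (i : N ⧸ T.subgroupOf N) : rp N T i ∈ N := (Quotient.out i : N).2

theorem rp_mk (n : N) : (rp N T (n : N ⧸ T.subgroupOf N))⁻¹ * n ∈ T := by
  have h1 : ((Quotient.out (n : N ⧸ T.subgroupOf N) : N) : N ⧸ T.subgroupOf N) = (n : N ⧸ T.subgroupOf N) :=
    Quotient.out_eq' _
  rw [QuotientGroup.eq] at h1
  exact mem_subgroupOf.1 h1

theorem eq_of_rp {i j : N ⧸ T.subgroupOf N} (h : (rp N T i)⁻¹ * rp N T j ∈ T) : i = j := by
  have h1 : ((Quotient.out i : N) : N ⧸ T.subgroupOf N) = ((Quotient.out j : N) : N ⧸ T.subgroupOf N) := by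
    rw [QuotientGroup.eq, mem_subgroupOf]
    exact h
  rwa [QuotientGroup.out_eq', QuotientGroup.out_eq'] at h1

theorem cov (h : Sys U T N) (g : S) : ∃ i, ∃ a ∈ U, ∃ b ∈ h.B, g = a * rp N T i * b := by
  obtain ⟨u, hu, n, hn, v, hv, e⟩ := h.bruhat g
  have h1 := rp_mk (T := T) (⟨n, hn⟩ : N)
  refine ⟨((⟨n, hn⟩ : N) : N ⧸ T.subgroupOf N), u, hu, _, h.B.mul_mem (h.T_le h1) (h.U_le hv), ?_⟩
  rw [e]
  change _ = u * rp N T _ * ((rp N T _)⁻¹ * n * v)
  group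

theorem inj (h : Sys U T N) (i j : N ⧸ T.subgroupOf N) {a b : S} (ha : a ∈ h.B) (hb : b ∈ h.B)
    (e : rp N T j = a * rp N T i * b) : i = j := by
  obtain ⟨u, hu, t, ht, rfl⟩ := ha
  obtain ⟨v, hv, r, hr, rfl⟩ := hb
  apply eq_of_rp
  have hi := rp_mem (T := T) i
  have hj := rp_mem (T := T) j
  have h1 := h.uniq (t * rp N T i) (N.mul_mem (h.TN ht) hi) (rp N T j * r⁻¹) (N.mul_mem hj (N.inv_mem (h.TN hr)))
    u hu v hv (by rw [e]; group)
  have h2 : (rp N T i)⁻¹ * rp N T j = ((t * rp N T i)⁻¹ * (rp N T j * r⁻¹)) * r * ((rp N T j)⁻¹ * t * rp N T j) := by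
    group
  rw [h2]
  exact T.mul_mem (T.mul_mem h1 hr) (h.NT' hj ht)

theorem good_UB_iff [Finite S] (h : Sys U T N) (ψ : U →* ℂˣ) (s : T →* ℂˣ) (n : S) :
    Good U h.B ψ (h.lin s) n ↔ Triv U ψ n := by
  constructor
  · intro hg u hu
    rw [hg u ⟨_, h.U_le hu⟩ rfl, lin_apply, h.proj_eq_one (b := ⟨_, h.U_le hu⟩) hu, map_one]
  · intro ht a b hab
    have h1 : n⁻¹ * (a : S) * n ∈ U := h.conj_mem_U a.2 (by rw [← hab]; exact b.2)
    rw [ht a h1, lin_apply, h.proj_eq_one (by rw [hab]; exact h1), map_one]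

theorem good_BB_iff [Finite S] (h : Sys U T N) (s t : T →* ℂˣ) {n : S} (hn : n ∈ N) :
    Good h.B h.B (h.lin s) (h.lin t) n ↔ IsConjBy T t s n := by
  constructor
  · intro hg a b hab
    have h1 := hg ⟨a, h.T_le a.2⟩ ⟨b, h.T_le b.2⟩ hab
    rwa [lin_apply, lin_apply, h.proj_coe (t := a) rfl, h.proj_coe (t := b) rfl] at h1
  · intro hc a b hab
    obtain ⟨u, hu, e⟩ := h.pr_spec a
    have h2 : n⁻¹ * (h.pr a : S) * n ∈ T := h.NT' hn (h.pr a).2
    have h3 : n⁻¹ * u * n = b * (n⁻¹ * (h.pr a : S) * n)⁻¹ := by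
      rw [hab, e]; group
    have h4 : n⁻¹ * u * n ∈ U := h.conj_mem_U hu (by
      rw [h3]; exact h.B.mul_mem b.2 (h.B.inv_mem (h.T_le h2)))
    have h5 : (b : S) = (n⁻¹ * u * n) * ((⟨_, h2⟩ : T) : S) := by
      rw [hab, e]; group
    rw [h.lin_eq t h4 h5]
    exact hc (h.pr a) ⟨_, h2⟩ rfl

theorem triv_mul (h : Sys U T N) {ψ : U →* ℂˣ} {n t : S} (ht : t ∈ T) (hn : Triv U ψ n) : Triv U ψ (n * t) := by
  intro u hu
  apply hn
  have h1 : n⁻¹ * (u : S) * n = t * ((n * t)⁻¹ * u * (n * t)) * t⁻¹ := by group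
  rw [h1]
  exact h.TU t ht _ hu

/-- **`[Ind_U ψ, Ind_B s] = 1` for regular `ψ`.** -/
theorem inner_UB [Fintype S] (h : Sys U T N) {ψ : U →* ℂˣ} (hψ : Reg U T N ψ) (s : T →* ℂˣ) :
    classInner (indFun U (fun x => (ψ x : ℂ))) (indFun h.B (fun x => (h.lin s x : ℂ))) = 1 := by
  rw [mackey U h.B (rp N T) h.cov (fun i j a ha b hb e => h.inj i j (h.U_le ha) hb e)]
  obtain ⟨n₀, hn₀, h0, h1⟩ := hψ
  have h2 : Nat.card {i : N ⧸ T.subgroupOf N // Good U h.B ψ (h.lin s) (rp N T i)} = 1 := by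
    rw [Nat.card_eq_one_iff_unique]
    constructor
    · constructor
      rintro ⟨i, hi⟩ ⟨j, hj⟩
      rw [good_UB_iff] at hi hj
      have h3 := h1 _ (rp_mem i) hi
      have h4 := h1 _ (rp_mem j) hj
      apply Subtype.ext
      apply eq_of_rp
      have h5 : (rp N T i)⁻¹ * rp N T j = (n₀⁻¹ * rp N T i)⁻¹ * (n₀⁻¹ * rp N T j) := by group
      rw [h5]
      exact T.mul_mem (T.inv_mem h3) h4
    · refine ⟨⟨((⟨n₀, hn₀⟩ : N) : N ⧸ T.subgroupOf N), ?_⟩⟩
      rw [good_UB_iff]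
      have h3 := rp_mk (T := T) (⟨n₀, hn₀⟩ : N)
      have h4 := h.triv_mul (T.inv_mem h3) h0
      have h5 : n₀ * ((rp N T ((⟨n₀, hn₀⟩ : N) : N ⧸ T.subgroupOf N))⁻¹ * ((⟨n₀, hn₀⟩ : N) : S))⁻¹ =
          rp N T ((⟨n₀, hn₀⟩ : N) : N ⧸ T.subgroupOf N) := by
        change n₀ * ((rp N T _)⁻¹ * n₀)⁻¹ = _
        group
      rwa [h5] at h4
  rw [h2, Nat.cast_one]

/-- the number of the cosets `nT` with `s = n • t` -/
noncomputable def cc (_h : Sys U T N) (s t : T →* ℂˣ) : ℕ :=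
  Nat.card {i : N ⧸ T.subgroupOf N // IsConjBy T t s (rp N T i)}

theorem inner_BB [Fintype S] (h : Sys U T N) (s t : T →* ℂˣ) :
    classInner (indFun h.B (fun x => (h.lin s x : ℂ))) (indFun h.B (fun x => (h.lin t x : ℂ))) = h.cc s t := by
  rw [mackey h.B h.B (rp N T) (fun g => ?_) (fun i j a ha b hb e => h.inj i j ha hb e)]
  · congr 1
    unfold cc
    apply Nat.card_congr
    exact Equiv.subtypeEquivRight fun i => h.good_BB_iff s t (rp_mem i)
  · obtain ⟨i, a, ha, b, hb, e⟩ := h.cov g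
    exact ⟨i, a, h.U_le ha, b, hb, e⟩

/-! ### The orbit -/

/-- conjugation `a ↦ n⁻¹ a n` on `T` -/
def cj (h : Sys U T N) {n : S} (hn : n ∈ N) : T →* T where
  toFun a := ⟨n⁻¹ * a * n, h.NT' hn a.2⟩
  map_one' := Subtype.ext (by simp)
  map_mul' a b := Subtype.ext (by push_cast; group)

theorem isConjBy_iff (h : Sys U T N) {s s' : T →* ℂˣ} {n : S} (hn : n ∈ N) :
    IsConjBy T s s' n ↔ s' = s.comp (h.cj hn) := by
  constructor
  · intro hc
    ext a
    exact congrArg Units.val (hc a (h.cj hn a) rfl)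
  · rintro rfl a b hab
    change s (h.cj hn a) = s b
    congr 1
    exact Subtype.ext hab.symm

theorem isConjBy_comp (h : Sys U T N) (s : T →* ℂˣ) {n : S} (hn : n ∈ N) : IsConjBy T s (s.comp (h.cj hn)) n :=
  (h.isConjBy_iff hn).2 rfl

theorem isConjBy_unique (h : Sys U T N) {s s' s'' : T →* ℂˣ} {n : S} (hn : n ∈ N) (h1 : IsConjBy T s s' n)
    (h2 : IsConjBy T s s'' n) : s' = s'' := by
  rw [h.isConjBy_iff hn] at h1 h2
  rw [h1, h2]

theorem isConjBy_one (s : T →* ℂˣ) : IsConjBy T s s 1 := by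
  intro a b hab
  congr 1
  apply Subtype.ext
  rw [hab]; group

theorem isConjBy_mul (h : Sys U T N) {s s' s'' : T →* ℂˣ} {n m : S} (hn : n ∈ N) (h1 : IsConjBy T s s' m)
    (h2 : IsConjBy T s' s'' n) : IsConjBy T s s'' (n * m) := by
  intro a b hab
  rw [h2 a ⟨_, h.NT' hn a.2⟩ rfl]
  apply h1
  rw [hab]
  change _ = m⁻¹ * (n⁻¹ * (a : S) * n) * m
  group

theorem isConjBy_inv (h : Sys U T N) {s s' : T →* ℂˣ} {n : S} (hn : n ∈ N) (h1 : IsConjBy T s s' n) :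
    IsConjBy T s' s n⁻¹ := by
  intro a b hab
  symm
  apply h1
  rw [hab]; group

theorem isConjBy_of_mem (h : Sys U T N) (s : T →* ℂˣ) {t : S} (ht : t ∈ T) : IsConjBy T s s t := by
  intro a b hab
  congr 1
  apply Subtype.ext
  rw [hab, mul_assoc, h.comm a a.2 t ht, inv_mul_cancel_left]

theorem cc_eq_zero (h : Sys U T N) {s t : T →* ℂˣ} (hst : s ∉ orb T N t) : h.cc s t = 0 := by
  unfold cc
  rw [Nat.card_eq_zero]
  left
  constructor
  rintro ⟨i, hi⟩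
  exact hst ⟨_, rp_mem i, hi⟩

theorem cc_eq (h : Sys U T N) {s t : T →* ℂˣ} (hst : s ∈ orb T N t) : h.cc s t = h.cc t t := by
  obtain ⟨m, hm, hst⟩ := hst
  have key : ∀ (m : N) (s t t' : T →* ℂˣ), IsConjBy T s t m → ∀ i : N ⧸ T.subgroupOf N,
      IsConjBy T t' s (rp N T i) → IsConjBy T t' t (rp N T (m • i)) := by
    intro m s t t' hst i hi
    have h1 : ((m * Quotient.out i : N) : N ⧸ T.subgroupOf N) = m • i := by
      conv_rhs => rw [← QuotientGroup.out_eq' i]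
      rfl
    have h2 := rp_mk (T := T) (m * Quotient.out i : N)
    rw [h1] at h2
    have h3 := h.isConjBy_mul m.2 hi hst
    have h4 := h.isConjBy_mul (n := m * rp N T i) (m := ((rp N T (m • i))⁻¹ * ((m * Quotient.out i : N) : S))⁻¹)
      (N.mul_mem m.2 (rp_mem i)) (h.isConjBy_of_mem t' (T.inv_mem h2)) h3
    have h5 : (m : S) * rp N T i * ((rp N T (m • i))⁻¹ * ((m * Quotient.out i : N) : S))⁻¹ = rp N T (m • i) := by
      change (m : S) * rp N T i * ((rp N T (m • i))⁻¹ * ((m : S) * rp N T i))⁻¹ = rp N T (m • i)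
      group
    rwa [h5] at h4
  unfold cc
  refine Nat.card_congr ⟨fun i => ⟨(⟨m, hm⟩ : N)⁻¹ • i.1, ?_⟩, fun i => ⟨(⟨m, hm⟩ : N) • i.1, ?_⟩, ?_, ?_⟩
  · exact key _ s t t (h.isConjBy_inv hm hst) i.1 i.2
  · exact key _ t s t hst i.1 i.2
  · intro i
    exact Subtype.ext (smul_inv_smul _ _)
  · intro i
    exact Subtype.ext (inv_smul_smul _ _)

end Sys

end Cfsg.Agent.H150.Toral
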