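import Cfsg.Prelude.Def_Blocks
import Mathlib.GroupTheory.Coset.Basic
import Mathlib.GroupTheory.GroupAction.Quotient
import Mathlib.GroupTheory.PGroup

/-!
# The toral lemma (S4579, task TL-1): the abstract frame

`Sys U T N` : the part of a split BN-pair (`B = U T`, `N`, `W = N / T`) which is used. `U` has odd order prime to the
order of the abelian group `T`. The 2-elements of `T` have no common fixed point in `U`, and elements of odd order of
`N` commuting with them lie in `T`.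
-/

set_option autoImplicit false

namespace Cfsg.Agent.H150.Toral

open Cfsg Subgroup

universe u

/-- The frame. -/
structure Sys {S : Type u} [Group S] (U T N : Subgroup S) : Prop where
  oddU : Odd (Nat.card U)
  cop : Nat.Coprime (Nat.card U) (Nat.card T)
  comm : ∀ a ∈ T, ∀ b ∈ T, a * b = b * a
  TN : T ≤ N
  NT : ∀ n ∈ N, ∀ t ∈ T, n * t * n⁻¹ ∈ T
  TU : ∀ t ∈ T, ∀ u ∈ U, t * u * t⁻¹ ∈ U
  bruhat : ∀ g : S, ∃ u ∈ U, ∃ n ∈ N, ∃ v ∈ U, g = u * n * v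
  uniq : ∀ n ∈ N, ∀ m ∈ N, ∀ u ∈ U, ∀ v ∈ U, m = u * n * v → n⁻¹ * m ∈ T
  fixU : ∀ u ∈ U, (∀ t ∈ T, (∃ k : ℕ, t ^ 2 ^ k = 1) → t * u = u * t) → u = 1
  fixN : ∀ n ∈ N, Odd (orderOf n) → (∀ t ∈ T, (∃ k : ℕ, t ^ 2 ^ k = 1) → t * n = n * t) → n ∈ T

/-- `ψ` is trivial on `U ∩ nUn⁻¹`. -/
def Triv {S : Type u} [Group S] (U : Subgroup S) (ψ : U →* ℂˣ) (n : S) : Prop :=
  ∀ u : U, n⁻¹ * (u : S) * n ∈ U → ψ u = 1

/-- `ψ` is regular: `ψ` is trivial on `U ∩ nUn⁻¹` for exactly one coset `nT`. -/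
def Reg {S : Type u} [Group S] (U T N : Subgroup S) (ψ : U →* ℂˣ) : Prop :=
  ∃ n₀ ∈ N, Triv U ψ n₀ ∧ ∀ n ∈ N, Triv U ψ n → n₀⁻¹ * n ∈ T

/-- `s'` is the conjugate of `s` by `n` : `s' a = s (n⁻¹ a n)`. -/
def IsConjBy {S : Type u} [Group S] (T : Subgroup S) (s s' : T →* ℂˣ) (n : S) : Prop :=
  ∀ a b : T, (b : S) = n⁻¹ * a * n → s' a = s b

/-- The orbit of `s` under `N`. -/
def orb {S : Type u} [Group S] (T N : Subgroup S) (s : T →* ℂˣ) : Set (T →* ℂˣ) :=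
  {s' | ∃ n ∈ N, IsConjBy T s s' n}

namespace Sys

variable {S : Type u} [Group S] {U T N : Subgroup S}

theorem inf (h : Sys U T N) : U ⊓ T = ⊥ := disjoint_iff.1 (disjoint_of_coprime_natCard h.cop)

theorem NT' (h : Sys U T N) {n : S} (hn : n ∈ N) {t : S} (ht : t ∈ T) : n⁻¹ * t * n ∈ T := by
  have := h.NT n⁻¹ (N.inv_mem hn) t ht
  rwa [inv_inv] at this

theorem TU' (h : Sys U T N) {t : S} (ht : t ∈ T) {u : S} (hu : u ∈ U) : t⁻¹ * u * t ∈ U := by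
  have := h.TU t⁻¹ (T.inv_mem ht) u hu
  rwa [inv_inv] at this

/-- the subgroup `B = UT` -/
def B (h : Sys U T N) : Subgroup S where
  carrier := {g | ∃ u ∈ U, ∃ t ∈ T, g = u * t}
  mul_mem' := by
    rintro _ _ ⟨u, hu, t, ht, rfl⟩ ⟨v, hv, r, hr, rfl⟩
    exact ⟨u * (t * v * t⁻¹), U.mul_mem hu (h.TU t ht v hv), t * r, T.mul_mem ht hr, by group⟩
  one_mem' := ⟨1, U.one_mem, 1, T.one_mem, by group⟩
  inv_mem' := by
    rintro _ ⟨u, hu, t, ht, rfl⟩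
    exact ⟨t⁻¹ * u⁻¹ * t, h.TU' ht (U.inv_mem hu), t⁻¹, T.inv_mem ht, by group⟩

theorem mem_B (h : Sys U T N) {g : S} : g ∈ h.B ↔ ∃ u ∈ U, ∃ t ∈ T, g = u * t := Iff.rfl

theorem U_le (h : Sys U T N) : U ≤ h.B := fun u hu => ⟨u, hu, 1, T.one_mem, by group⟩

theorem T_le (h : Sys U T N) : T ≤ h.B := fun t ht => ⟨1, U.one_mem, t, ht, by group⟩

theorem B_eq (h : Sys U T N) : h.B = U ⊔ T := by
  apply le_antisymm
  · rintro _ ⟨u, hu, t, ht, rfl⟩
    exact mul_mem (mem_sup_left hu) (mem_sup_right ht)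
  · exact sup_le h.U_le h.T_le

theorem uniq_ut (h : Sys U T N) {u u' t t' : S} (hu : u ∈ U) (hu' : u' ∈ U) (ht : t ∈ T) (ht' : t' ∈ T)
    (e : u * t = u' * t') : t = t' := by
  have h1 : t' * t⁻¹ = u'⁻¹ * u := by
    rw [mul_inv_eq_iff_eq_mul, mul_assoc, e]; group
  have h2 : t' * t⁻¹ ∈ U ⊓ T := ⟨by rw [h1]; exact U.mul_mem (U.inv_mem hu') hu, T.mul_mem ht' (T.inv_mem ht)⟩
  rw [h.inf, mem_bot, mul_inv_eq_one] at h2
  exact h2.symm

/-- the torus part of an element of `B` -/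
noncomputable def pr (h : Sys U T N) (b : h.B) : T := ⟨b.2.choose_spec.2.choose, b.2.choose_spec.2.choose_spec.1⟩

theorem pr_spec (h : Sys U T N) (b : h.B) : ∃ u ∈ U, (b : S) = u * h.pr b :=
  ⟨b.2.choose, b.2.choose_spec.1, b.2.choose_spec.2.choose_spec.2⟩

theorem pr_eq (h : Sys U T N) {b : h.B} {u : S} {t : T} (hu : u ∈ U) (e : (b : S) = u * t) : h.pr b = t := by
  obtain ⟨v, hv, e'⟩ := h.pr_spec b
  exact Subtype.ext (h.uniq_ut hv hu (h.pr b).2 t.2 (e'.symm.trans e))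

/-- the projection `B → T` -/
noncomputable def proj (h : Sys U T N) : h.B →* T :=
  MonoidHom.mk' h.pr (by
    intro a b
    obtain ⟨u, hu, ea⟩ := h.pr_spec a
    obtain ⟨v, hv, eb⟩ := h.pr_spec b
    refine h.pr_eq (U.mul_mem hu (h.TU _ (h.pr a).2 _ hv)) ?_
    push_cast
    rw [ea, eb]; group)

theorem proj_eq (h : Sys U T N) {b : h.B} {u : S} {t : T} (hu : u ∈ U) (e : (b : S) = u * t) : h.proj b = t :=
  h.pr_eq hu e

theorem proj_coe (h : Sys U T N) {b : h.B} {t : T} (e : (b : S) = t) : h.proj b = t :=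
  h.proj_eq U.one_mem (by rw [e, one_mul])

theorem proj_eq_one (h : Sys U T N) {b : h.B} (hb : (b : S) ∈ U) : h.proj b = 1 :=
  h.proj_eq hb (by simp)

theorem mem_U_of_proj (h : Sys U T N) {b : h.B} (hb : h.proj b = 1) : (b : S) ∈ U := by
  obtain ⟨u, hu, e⟩ := h.pr_spec b
  have h1 : h.pr b = 1 := hb
  rw [h1, coe_one, mul_one] at e
  rw [e]; exact hu

/-- the inflation of a linear character of `T` to `B` -/
noncomputable def lin (h : Sys U T N) (s : T →* ℂˣ) : h.B →* ℂˣ := s.comp h.proj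

theorem lin_apply (h : Sys U T N) (s : T →* ℂˣ) (b : h.B) : h.lin s b = s (h.proj b) := rfl

theorem lin_eq (h : Sys U T N) (s : T →* ℂˣ) {b : h.B} {u : S} {t : T} (hu : u ∈ U) (e : (b : S) = u * t) :
    h.lin s b = s t := by rw [lin_apply, h.proj_eq hu e]

/-- conjugates of elements of `U` which lie in `B` lie in `U` -/
theorem conj_mem_U [Finite S] (h : Sys U T N) {n u : S} (hu : u ∈ U) (hB : n⁻¹ * u * n ∈ h.B) :
    n⁻¹ * u * n ∈ U := by
  apply h.mem_U_of_proj (b := ⟨_, hB⟩)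
  have h1 : u ^ Nat.card U = 1 := by
    have h2 : (⟨u, hu⟩ : U) ^ Nat.card U = 1 := pow_card_eq_one'
    exact congrArg Subtype.val h2
  have h2 : (⟨_, hB⟩ : h.B) ^ Nat.card U = 1 := by
    apply Subtype.ext
    push_cast
    have h3 : (n⁻¹ * u * n) ^ Nat.card U = n⁻¹ * u ^ Nat.card U * n := by
      have := conj_pow (i := Nat.card U) (a := n⁻¹) (b := u)
      rwa [inv_inv] at this
    rw [h3, h1]; group
  have h3 : h.proj ⟨_, hB⟩ ^ Nat.card U = 1 := by rw [← map_pow, h2, map_one]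
  have h4 : h.proj ⟨_, hB⟩ ^ Nat.card T = 1 := pow_card_eq_one'
  have h5 := orderOf_dvd_of_pow_eq_one h3
  have h6 := orderOf_dvd_of_pow_eq_one h4
  exact orderOf_eq_one_iff.1 (Nat.eq_one_of_dvd_coprimes h.cop h5 h6)

/-- strong uniqueness in the Bruhat decomposition -/
theorem uniq' [Finite S] (h : Sys U T N) {n m u v : S} (hn : n ∈ N) (hm : m ∈ N) (hu : u ∈ U) (hv : v ∈ U)
    (e : m = u * n * v) : m = n := by
  have h1 := h.uniq n hn m hm u hu v hv e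
  have h2 : n⁻¹ * u * n = (n⁻¹ * m) * v⁻¹ := by rw [e]; group
  have h3 : n⁻¹ * u * n ∈ h.B := by
    rw [h2]; exact mul_mem (h.T_le h1) (h.U_le (U.inv_mem hv))
  have h4 := h.conj_mem_U hu h3
  have h5 : n⁻¹ * m ∈ U ⊓ T := by
    refine ⟨?_, h1⟩
    have h6 : n⁻¹ * m = (n⁻¹ * u * n) * v := by rw [h2]; group
    rw [h6]
    exact U.mul_mem h4 hv
  rw [h.inf, mem_bot, inv_mul_eq_one] at h5
  exact h5.symm

/-- the subgroup of the 2-elements of `T` -/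
def T2 (h : Sys U T N) : Subgroup S where
  carrier := {t | t ∈ T ∧ ∃ k : ℕ, t ^ 2 ^ k = 1}
  mul_mem' := by
    rintro a b ⟨ha, k, hk⟩ ⟨hb, l, hl⟩
    refine ⟨T.mul_mem ha hb, k + l, ?_⟩
    rw [(show Commute a b from h.comm a ha b hb).mul_pow, pow_add, pow_mul, hk, one_pow, mul_comm (2 ^ k), pow_mul,
      hl, one_pow, one_mul]
  one_mem' := ⟨T.one_mem, 0, one_pow _⟩
  inv_mem' := by
    rintro a ⟨ha, k, hk⟩
    exact ⟨T.inv_mem ha, k, by rw [inv_pow, hk, inv_one]⟩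

theorem mem_T2 (h : Sys U T N) {t : S} : t ∈ h.T2 ↔ t ∈ T ∧ ∃ k : ℕ, t ^ 2 ^ k = 1 := Iff.rfl

theorem T2_le (h : Sys U T N) : h.T2 ≤ T := fun _ ht => ht.1

theorem isPGroup_T2 (h : Sys U T N) : IsPGroup 2 h.T2 := by
  rintro ⟨t, ht, k, hk⟩
  exact ⟨k, Subtype.ext hk⟩

theorem fixU' (h : Sys U T N) {u : S} (hu : u ∈ U) (hc : ∀ t ∈ h.T2, t * u = u * t) : u = 1 :=
  h.fixU u hu fun t ht hk => hc t ⟨ht, hk⟩

/-- **The centralizer of `T2` lies in `N`.** -/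
theorem cent_T2 [Finite S] (h : Sys U T N) {g : S} (hg : ∀ t ∈ h.T2, t * g = g * t) : g ∈ N := by
  obtain ⟨u, hu, n, hn, v, hv, e⟩ := h.bruhat g
  have hnt : ∀ t ∈ h.T2, t * n = n * t := by
    intro t ht
    have h1 : t * n * t⁻¹ ∈ N := N.mul_mem (N.mul_mem (h.TN ht.1) hn) (N.inv_mem (h.TN ht.1))
    have h2 : t * n * t⁻¹ = ((t * u * t⁻¹)⁻¹ * u) * n * (v * (t * v * t⁻¹)⁻¹) := by
      have h3 : t * g * t⁻¹ = g := by rw [hg t ht]; group
      rw [e] at h3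
      calc t * n * t⁻¹ = (t * u * t⁻¹)⁻¹ * (t * (u * n * v) * t⁻¹) * (t * v * t⁻¹)⁻¹ := by group
        _ = (t * u * t⁻¹)⁻¹ * (u * n * v) * (t * v * t⁻¹)⁻¹ := by rw [h3]
        _ = _ := by group
    have h3 := h.uniq' hn h1 (U.mul_mem (U.inv_mem (h.TU t ht.1 u hu)) hu)
      (U.mul_mem hv (U.inv_mem (h.TU t ht.1 v hv))) h2
    rwa [mul_inv_eq_iff_eq_mul] at h3
  let K : Subgroup S := U ⊓ U.comap (MulAut.conj n⁻¹).toMonoidHom
  have hK : ∀ x, x ∈ K ↔ x ∈ U ∧ n⁻¹ * x * n ∈ U := by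
    intro x
    rw [mem_inf, mem_comap]
    simp
  let X := {a : S // a ∈ U ∧ n⁻¹ * a⁻¹ * g ∈ U}
  have hX : ∀ x : S, n⁻¹ * (u * x)⁻¹ * g = (n⁻¹ * x * n)⁻¹ * v := by
    intro x
    rw [e]; group
  let E : K ≃ X :=
    { toFun := fun x => ⟨u * x, U.mul_mem hu ((hK _).1 x.2).1, by
        rw [hX]
        exact U.mul_mem (U.inv_mem ((hK _).1 x.2).2) hv⟩
      invFun := fun a => ⟨u⁻¹ * a, (hK _).2 ⟨U.mul_mem (U.inv_mem hu) a.2.1, by
        have h1 := hX (u⁻¹ * a)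
        rw [mul_inv_cancel_left] at h1
        have h2 : n⁻¹ * (u⁻¹ * (a : S)) * n = v * (n⁻¹ * (a : S)⁻¹ * g)⁻¹ := by
          rw [h1]; group
        rw [h2]
        exact U.mul_mem hv (U.inv_mem a.2.2)⟩⟩
      left_inv := fun x => Subtype.ext (inv_mul_cancel_left _ _)
      right_inv := fun a => Subtype.ext (mul_inv_cancel_left _ _) }
  have hcard : ¬ 2 ∣ Nat.card X := by
    rw [← Nat.card_congr E]
    intro h2
    have h3 : Nat.card K ∣ Nat.card U := card_dvd_of_le inf_le_left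
    have h4 := h2.trans h3
    exact (Nat.not_even_iff_odd.2 h.oddU) (even_iff_two_dvd.2 h4)
  let _ : MulAction h.T2 X :=
    { smul := fun t a => ⟨(t : S) * a * (t : S)⁻¹, h.TU _ t.2.1 _ a.2.1, by
        have h1 : n⁻¹ * ((t : S) * a * (t : S)⁻¹)⁻¹ * g = t * (n⁻¹ * (a : S)⁻¹ * g) * (t : S)⁻¹ := by
          have h2 := hnt t t.2
          have h3 := hg t t.2
          have h4 : n⁻¹ * (t : S) = t * n⁻¹ := by
            rw [inv_mul_eq_iff_eq_mul, ← mul_assoc, ← h2]; group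
          have h5 : (t : S)⁻¹ * g = g * (t : S)⁻¹ := by
            rw [inv_mul_eq_iff_eq_mul, ← mul_assoc, h3]; group
          calc n⁻¹ * ((t : S) * a * (t : S)⁻¹)⁻¹ * g = (n⁻¹ * t) * (a : S)⁻¹ * ((t : S)⁻¹ * g) := by group
            _ = _ := by rw [h4, h5]; group
        rw [h1]
        exact h.TU _ t.2.1 _ a.2.2⟩
      one_smul := fun a => Subtype.ext (by
        change (1 : S) * (a : S) * (1 : S)⁻¹ = a
        group)
      mul_smul := fun t r a => Subtype.ext (by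
        change ((t : S) * r) * (a : S) * ((t : S) * r)⁻¹ = (t : S) * ((r : S) * a * (r : S)⁻¹) * (t : S)⁻¹
        group) }
  have hcoe : ∀ (t : h.T2) (a : X), ((t • a : X) : S) = t * a * (t : S)⁻¹ := fun _ _ => rfl
  have : Fact (Nat.Prime 2) := ⟨Nat.prime_two⟩
  obtain ⟨a, ha⟩ := h.isPGroup_T2.nonempty_fixed_point_of_prime_not_dvd_card X hcard
  have h1 : (a : S) = 1 := h.fixU' a.2.1 fun t ht => by
    have h2 := congrArg Subtype.val (ha ⟨t, ht⟩)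
    rw [hcoe] at h2
    exact mul_inv_eq_iff_eq_mul.1 h2
  have h2 := a.2.2
  rw [h1, inv_one, mul_one] at h2
  have h3 : n⁻¹ * g = 1 := h.fixU' h2 fun t ht => by
    have h4 : n⁻¹ * (t : S) = t * n⁻¹ := by
      rw [inv_mul_eq_iff_eq_mul, ← mul_assoc, ← hnt t ht]; group
    rw [← mul_assoc, ← h4, mul_assoc, hg t ht, mul_assoc]
  rw [inv_mul_eq_one] at h3
  rw [← h3]
  exact hn

/-- the elements of odd order commuting with `T2` -/
theorem cent_T2_odd [Finite S] (h : Sys U T N) {g : S} (ho : Odd (orderOf g)) (hg : ∀ t ∈ h.T2, t * g = g * t) :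
    g ∈ T :=
  h.fixN g (h.cent_T2 hg) ho fun t ht hk => hg t ⟨ht, hk⟩

end Sys

end Cfsg.Agent.H150.Toral
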