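import Cfsg.Agent.H150.Toral.Coef
import Cfsg.Agent.Blocks.OrbitSum
import Cfsg.Agent.Blocks.ExistsModular
import Cfsg.Agent.Characters.GaloisBasic
import Cfsg.Agent.S0952

/-!
# The toral lemma (S4579, task TL-1): parity, principal block, reality
-/

set_option autoImplicit false

namespace Cfsg.Agent.H150.Toral

open Cfsg Subgroup
open scoped ComplexConjugate
open Cfsg.Agent.Characters
open Cfsg.Agent.OddOrderCharacters.PF9

universe u

/-- `a ≡ b` modulo twice the algebraic integers -/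
def Cong (a b : ℂ) : Prop := ∃ c : ℂ, IsIntegral ℤ c ∧ a = b + 2 * c

theorem Cong.refl (a : ℂ) : Cong a a := ⟨0, isIntegral_zero, by ring⟩

theorem Cong.symm {a b : ℂ} (h : Cong a b) : Cong b a := by
  obtain ⟨c, hc, e⟩ := h
  exact ⟨-c, hc.neg, by rw [e]; ring⟩

theorem Cong.trans {a b c : ℂ} (h : Cong a b) (h' : Cong b c) : Cong a c := by
  obtain ⟨x, hx, e⟩ := h
  obtain ⟨y, hy, e'⟩ := h'
  exact ⟨x + y, hx.add hy, by rw [e, e']; ring⟩

theorem Cong.sum {ι : Type*} (s : Finset ι) {f g : ι → ℂ} (h : ∀ i ∈ s, Cong (f i) (g i)) :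
    Cong (∑ i ∈ s, f i) (∑ i ∈ s, g i) := by
  classical
  induction s using Finset.induction_on with
  | empty => simpa using Cong.refl 0
  | insert a s ha ih =>
    rw [Finset.sum_insert ha, Finset.sum_insert ha]
    obtain ⟨x, hx, e⟩ := h a (Finset.mem_insert_self _ _)
    obtain ⟨y, hy, e'⟩ := ih fun i hi => h i (Finset.mem_insert_of_mem hi)
    exact ⟨x + y, hx.add hy, by rw [e, e']; ring⟩

theorem Cong.even {n : ℤ} (h : Cong (n : ℂ) 0) : Even n := by
  obtain ⟨c, hc, e⟩ := h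
  rw [zero_add] at e
  obtain ⟨k, hk⟩ := GaloisBasic.exists_int_of_isIntegral hc ⟨(n : ℚ) / 2, by
    push_cast
    rw [e]; ring⟩
  rw [hk] at e
  have h2 : n = 2 * k := by exact_mod_cast e
  exact ⟨k, by omega⟩

theorem Cong.odd {n m : ℤ} (h : Cong (n : ℂ) (m : ℂ)) (hm : Odd m) : Odd n := by
  obtain ⟨c, hc, e⟩ := h
  have h1 : Even (n - m) := Cong.even ⟨c, hc, by push_cast; rw [e]; ring⟩
  have := h1.add_odd hm
  rwa [sub_add_cancel] at this

/-- the weighted fixed point lemma for a conjugation action -/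
theorem cong_sum_conj {S : Type*} [Group S] [Finite S] (P : Subgroup S) (hP : IsPGroup 2 P) (Ω : Finset S)
    (hΩ : ∀ t ∈ P, ∀ x ∈ Ω, t * x * t⁻¹ ∈ Ω) {F : S → ℂ} (hi : ∀ x, IsIntegral ℤ (F x)) (hF : IsClassFunction S F)
    [DecidablePred fun x : S => ∀ t ∈ P, t * x = x * t] :
    Cong (∑ x ∈ Ω, F x) (∑ x ∈ Ω.filter (fun x : S => ∀ t ∈ P, t * x = x * t), F x) := by
  classical
  have : Fact (Nat.Prime 2) := ⟨Nat.prime_two⟩
  let _ : MulAction P Ω :=
    { smul := fun t a => ⟨(t : S) * a * (t : S)⁻¹, hΩ _ t.2 _ a.2⟩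
      one_smul := fun a => Subtype.ext (by
        change (1 : S) * (a : S) * (1 : S)⁻¹ = a
        group)
      mul_smul := fun t r a => Subtype.ext (by
        change ((t : S) * r) * (a : S) * ((t : S) * r)⁻¹ = (t : S) * ((r : S) * a * (r : S)⁻¹) * (t : S)⁻¹
        group) }
  have hcoe : ∀ (t : P) (a : Ω), ((t • a : Ω) : S) = (t : S) * a * (t : S)⁻¹ := fun _ _ => rfl
  obtain ⟨a, ha⟩ := Cfsg.Agent.Blocks.OrbitSum.sum_eq_sum_fixed_add_smul (P := P) (Ω := Ω) (p := 2) hP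
    (fun x : Ω => (⟨F x, hi x⟩ : AlgInt)) (fun t x => Subtype.ext (by
      change F ((t • x : Ω) : S) = F x
      rw [hcoe]
      exact hF x t))
  have h1 := congrArg (Subtype.val : AlgInt → ℂ) ha
  refine ⟨(a : ℂ), a.2, ?_⟩
  push_cast at h1
  rw [nsmul_eq_mul] at h1
  push_cast at h1
  have h2 : ∑ x ∈ Ω, F x = ∑ x : Ω, F x := (Finset.sum_coe_sort Ω F).symm
  have h3 : ∑ x ∈ Ω.filter (fun x : S => ∀ t ∈ P, t * x = x * t), F x =
      ∑ x ∈ Finset.univ.filter (fun x : Ω => x ∈ MulAction.fixedPoints P Ω), F x := by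
    rw [Finset.sum_filter, Finset.sum_filter, ← Finset.sum_coe_sort Ω]
    refine Finset.sum_congr rfl fun x _ => ?_
    congr 1
    apply propext
    constructor
    · intro hx t
      apply Subtype.ext
      rw [hcoe, hx t t.2]; group
    · intro hx t ht
      have h4 := congrArg Subtype.val (hx ⟨t, ht⟩)
      rw [hcoe] at h4
      exact mul_inv_eq_iff_eq_mul.1 h4
  rw [h2, h3]
  exact h1

namespace Sys

variable {S : Type u} [Group S] {U T N : Subgroup S}

/-- **Parity.** -/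
theorem cong_cof [Fintype S] [Fintype U] (h : Sys U T N) (χ : IrrCharacter S) (x : T) :
    Cong ((Nat.card U : ℂ) * h.cof (χ : S → ℂ) x) ((χ : S → ℂ) x) := by
  classical
  have hU : (Nat.card U : ℂ) ≠ 0 := by exact_mod_cast Nat.card_pos.ne'
  unfold cof
  rw [mul_inv_cancel_left₀ hU]
  let Ω : Finset S := Finset.univ.image (fun v : U => (v : S) * x)
  have h1 : ∑ v : U, (χ : S → ℂ) (v * x) = ∑ y ∈ Ω, (χ : S → ℂ) y := by
    rw [Finset.sum_image]
    intro a _ b _ hab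
    exact Subtype.ext (mul_right_cancel hab)
  have h2 := cong_sum_conj h.T2 h.isPGroup_T2 Ω (by
    intro t ht y hy
    obtain ⟨v, -, rfl⟩ := Finset.mem_image.1 hy
    refine Finset.mem_image.2 ⟨⟨_, h.TU t ht.1 v v.2⟩, Finset.mem_univ _, ?_⟩
    have h3 : t⁻¹ * (x : S) = x * t⁻¹ := h.comm _ (T.inv_mem ht.1) _ x.2
    change t * v * t⁻¹ * x = t * (v * x) * t⁻¹
    rw [mul_assoc _ t⁻¹, h3]; group) (F := (χ : S → ℂ))
    (GaloisBasic.isIntegral_apply (Core.isIrr_isCharacter χ.2)) (Core.isIrr_isClassFunction χ.2)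
  have h3 : Ω.filter (fun y : S => ∀ t ∈ h.T2, t * y = y * t) = {(x : S)} := by
    ext y
    rw [Finset.mem_filter, Finset.mem_singleton]
    constructor
    · rintro ⟨hy, hc⟩
      obtain ⟨v, -, rfl⟩ := Finset.mem_image.1 hy
      have h4 : (v : S) = 1 := h.fixU' v.2 fun t ht => by
        have h5 := hc t ht
        rw [mul_assoc, ← h.comm t ht.1 x x.2, ← mul_assoc, ← mul_assoc] at h5
        exact mul_right_cancel h5
      rw [h4, one_mul]
    · rintro rfl
      exact ⟨Finset.mem_image.2 ⟨1, Finset.mem_univ _, by simp⟩, fun t ht => h.comm t ht.1 x x.2⟩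
  rw [h3, Finset.sum_singleton] at h2
  rw [h1]
  exact h2

/-- the linear characters of the orbit have 2-power order -/
theorem orb_pow (h : Sys U T N) {s t : T →* ℂˣ} (ht : t ∈ orb T N s) {k : ℕ} (hk : ∀ x, s x ^ k = 1) (x : T) :
    t x ^ k = 1 := by
  obtain ⟨n, hn, hc⟩ := ht
  rw [hc x ⟨_, h.NT' hn x.2⟩ rfl, hk]

theorem orb_apply_odd (h : Sys U T N) {s t : T →* ℂˣ} (ht : t ∈ orb T N s) {k : ℕ} (hk : ∀ x, s x ^ 2 ^ k = 1)
    {x : T} (hx : Odd (orderOf x)) : t x = 1 := by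
  have h1 := h.orb_pow ht hk x
  have h2 : t x ^ orderOf x = 1 := by rw [← map_pow, pow_orderOf_eq_one, map_one]
  exact orderOf_eq_one_iff.1 (Nat.eq_one_of_dvd_coprimes (Nat.Coprime.pow_left k (Nat.coprime_two_left.2 hx))
    (orderOf_dvd_of_pow_eq_one h1) (orderOf_dvd_of_pow_eq_one h2))

/-- **Values at the elements of odd order of `T`.** -/
theorem cong_apply [Fintype S] (h : Sys U T N) {s : T →* ℂˣ} {k : ℕ} (hk : ∀ x, s x ^ 2 ^ k = 1)
    {χ : IrrCharacter S} (hχ : classInner (h.X s) (χ : S → ℂ) = 1) {x : S} (hx : x ∈ T) (ho : Odd (orderOf x)) :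
    Cong ((χ : S → ℂ) x) ((Nat.card U * (orb T N s).ncard : ℕ) : ℂ) := by
  classical
  have := Fintype.ofFinite U
  have := Fintype.ofFinite T
  have h1 := h.cong_cof χ ⟨x, hx⟩
  rw [h.cof_eq hχ] at h1
  have h2 : ∑ t ∈ (h.finite_orb s).toFinset, ((t ⟨x, hx⟩ : ℂˣ) : ℂ) = ((orb T N s).ncard : ℂ) := by
    rw [Set.ncard_eq_toFinset_card _ (h.finite_orb s), Finset.sum_congr rfl (g := fun _ => (1 : ℂ))]
    · rw [Finset.sum_const, nsmul_eq_mul, mul_one]
    · intro t ht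
      rw [h.orb_apply_odd ((h.finite_orb s).mem_toFinset.1 ht) hk (by rwa [Subgroup.orderOf_mk]), Units.val_one]
  rw [h2] at h1
  rw [Nat.cast_mul]
  exact h1.symm

/-- the subgroup of the elements of odd order of `T` -/
def T' (h : Sys U T N) : Subgroup S where
  carrier := {t | t ∈ T ∧ Odd (orderOf t)}
  mul_mem' := by
    rintro a b ⟨ha, ha'⟩ ⟨hb, hb'⟩
    refine ⟨T.mul_mem ha hb, ?_⟩
    have h1 : orderOf (a * b) ∣ orderOf a * orderOf b :=
      ((show Commute a b from h.comm a ha b hb).orderOf_mul_dvd_mul_orderOf)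
    exact Odd.of_dvd_nat (ha'.mul hb') h1
  one_mem' := ⟨T.one_mem, by rw [orderOf_one]; exact odd_one⟩
  inv_mem' := by
    rintro a ⟨ha, ha'⟩
    exact ⟨T.inv_mem ha, by rw [orderOf_inv]; exact ha'⟩

theorem odd_card_T' [Finite S] (h : Sys U T N) : Odd (Nat.card h.T') := by
  by_contra hne
  have : Fact (Nat.Prime 2) := ⟨Nat.prime_two⟩
  rw [Nat.not_odd_iff_even, even_iff_two_dvd] at hne
  obtain ⟨x, hx⟩ := exists_prime_orderOf_dvd_card' 2 hne
  have h1 : Odd (orderOf (x : S)) := x.2.2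
  rw [Subgroup.orderOf_coe, hx] at h1
  exact absurd h1 (by decide)

/-- **The degree is odd.** -/
theorem odd_degree [Fintype S] (h : Sys U T N) {s : T →* ℂˣ} {k : ℕ} (hk : ∀ x, s x ^ 2 ^ k = 1)
    (hodd : Odd (orb T N s).ncard) {χ : IrrCharacter S} (hχ : classInner (h.X s) (χ : S → ℂ) = 1) :
    Odd (charDegree (χ : S → ℂ)) := by
  obtain ⟨d, -, hd⟩ := Core.isIrr_apply_one χ.2
  have h1 := h.cong_apply hk hχ T.one_mem (by rw [orderOf_one]; exact odd_one)
  have h2 : charDegree (χ : S → ℂ) = d := by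
    unfold charDegree
    rw [hd, Complex.natCast_re, Nat.floor_natCast]
  rw [hd] at h1
  rw [h2]
  have h3 : Odd (d : ℤ) := Cong.odd (n := (d : ℤ)) (m := ((Nat.card U * (orb T N s).ncard : ℕ) : ℤ))
    (by push_cast at h1 ⊢; exact h1) (by exact_mod_cast h.oddU.mul hodd)
  exact_mod_cast h3

/-- **The principal block.** -/
theorem mem_principal [Fintype S] (h : Sys U T N) {s : T →* ℂˣ} {k : ℕ} (hk : ∀ x, s x ^ 2 ^ k = 1)
    (hodd : Odd (orb T N s).ncard) {χ : IrrCharacter S} (hχ : classInner (h.X s) (χ : S → ℂ) = 1)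
    {M : Ideal AlgInt} (hM : IsPModular 2 M) : χ ∈ principalBlock M S := by
  classical
  have : Fact (Nat.Prime 2) := ⟨Nat.prime_two⟩
  by_contra hne
  have h0 := Cfsg.Agent.S0952.result 2 M hM ⟨fun _ => 1, Core.isIrr_one⟩ χ hne
  let Ω : Finset S := Finset.univ.filter (fun x : S => ¬ 2 ∣ orderOf x)
  have hΩ : ∀ x, x ∈ Ω ↔ Odd (orderOf x) := by
    intro x
    rw [Finset.mem_filter, ← Nat.not_even_iff_odd, even_iff_two_dvd]
    simp
  have h1 : ∑ x ∈ Ω, (χ : S → ℂ) x = 0 := by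
    have h2 : ∑ x ∈ Ω, conj ((χ : S → ℂ) x) = 0 := by
      rw [← h0, finsum_mem_eq_finite_toFinset_sum _ (Set.toFinite _)]
      refine Finset.sum_congr ?_ fun x _ => by rw [one_mul]
      ext x
      rw [Finset.mem_filter, Set.Finite.mem_toFinset]
      simp
    have h3 := congrArg conj h2
    rw [map_sum, map_zero] at h3
    simpa using h3
  have h2 := cong_sum_conj h.T2 h.isPGroup_T2 Ω (by
    intro t _ y hy
    rw [hΩ] at hy ⊢
    have h3 : orderOf (t * y * t⁻¹) = orderOf y := by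
      have := (MulAut.conj t).orderOf_eq y
      rwa [MulAut.conj_apply] at this
    rwa [h3]) (F := (χ : S → ℂ))
    (GaloisBasic.isIntegral_apply (Core.isIrr_isCharacter χ.2)) (Core.isIrr_isClassFunction χ.2)
  have h3 : Cong (∑ x ∈ Ω.filter (fun x : S => ∀ t ∈ h.T2, t * x = x * t), (χ : S → ℂ) x)
      (∑ x ∈ Ω.filter (fun x : S => ∀ t ∈ h.T2, t * x = x * t),
        ((Nat.card U * (orb T N s).ncard : ℕ) : ℂ)) := by
    apply Cong.sum
    intro x hx
    rw [Finset.mem_filter, hΩ] at hx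
    exact h.cong_apply hk hχ (h.cent_T2_odd hx.1 hx.2) hx.1
  have h4 : (Ω.filter (fun x : S => ∀ t ∈ h.T2, t * x = x * t)).card = Nat.card h.T' := by
    have h5 : Ω.filter (fun x : S => ∀ t ∈ h.T2, t * x = x * t) = Finset.univ.filter (fun x : S => x ∈ h.T') := by
      ext x
      rw [Finset.mem_filter, hΩ, Finset.mem_filter]
      constructor
      · intro hx
        exact ⟨Finset.mem_univ _, h.cent_T2_odd hx.1 hx.2, hx.1⟩
      · rintro ⟨-, hx, hx'⟩
        exact ⟨hx', fun t ht => h.comm t ht.1 x hx⟩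
    rw [h5, Nat.card_eq_fintype_card, ← Fintype.card_subtype]
  rw [Finset.sum_const, h4, nsmul_eq_mul] at h3
  rw [h1] at h2
  have h5 := (h2.trans h3).symm
  have h6 : Even ((Nat.card h.T' * (Nat.card U * (orb T N s).ncard) : ℕ) : ℤ) := Cong.even (by
    push_cast at h5 ⊢
    exact h5)
  have h7 : Odd ((Nat.card h.T' * (Nat.card U * (orb T N s).ncard) : ℕ) : ℤ) := by
    exact_mod_cast h.odd_card_T'.mul (h.oddU.mul hodd)
  exact (Int.not_even_iff_odd.2 h7) h6

/-- the conjugate of a principal series character -/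
theorem conj_X [Fintype S] (h : Sys U T N) (s : T →* ℂˣ) (g : S) : conj (h.X s g) = h.X s⁻¹ g := by
  unfold X
  rw [S0150.indFun_apply, S0150.indFun_apply, map_mul, map_inv₀, Complex.conj_natCast, map_sum]
  congr 1
  refine Finset.sum_congr rfl fun x _ => ?_
  by_cases hx : x⁻¹ * g * x ∈ h.B
  · have h1 := S0150.extendByZero_coe h.B (fun x => (h.lin s x : ℂ)) ⟨_, hx⟩
    have h2 := S0150.extendByZero_coe h.B (fun x => (h.lin s⁻¹ x : ℂ)) ⟨_, hx⟩
    simp only at h1 h2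
    rw [h1, h2, lin_apply, lin_apply, MonoidHom.inv_apply, Units.val_inv_eq_inv_val]
    exact (eq_inv_of_mul_eq_one_right (Mackey.mul_conj_lin s _))
  · rw [S0150.extendByZero_of_notMem _ _ hx, S0150.extendByZero_of_notMem _ _ hx, map_zero]

/-- **The character is not real.** -/
theorem not_real [Fintype S] (h : Sys U T N) {s : T →* ℂˣ} (hodd : Odd (orb T N s).ncard)
    (hs : ∃ t, s t ^ 2 ≠ 1) {χ : IrrCharacter S} (hχ : classInner (h.X s) (χ : S → ℂ) = 1) :
    ∃ g : S, ((χ : S → ℂ) g).im ≠ 0 := by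
  classical
  by_contra hcon
  push Not at hcon
  have hreal : ∀ g, conj ((χ : S → ℂ) g) = (χ : S → ℂ) g := fun g => Complex.conj_eq_iff_im.2 (hcon g)
  have h1 : classInner (h.X s⁻¹) (χ : S → ℂ) = 1 := by
    have h2 := congrArg conj hχ
    rw [map_one, Core.classInner_def, map_mul, map_inv₀, Complex.conj_natCast, map_sum] at h2
    rw [Core.classInner_def, ← h2]
    congr 1
    refine Finset.sum_congr rfl fun g _ => ?_
    rw [map_mul, h.conj_X, Complex.conj_conj, hreal]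
  have h2 : s⁻¹ ∈ orb T N s := by
    by_contra hne
    have h3 := h.mult hχ s⁻¹
    rw [if_neg hne, h1] at h3
    exact one_ne_zero h3
  have hinv : ∀ t ∈ orb T N s, t⁻¹ ∈ orb T N s := by
    rintro t ⟨n, hn, hc⟩
    refine h.orb_trans ⟨n, hn, fun a b hab => ?_⟩ h2
    rw [MonoidHom.inv_apply, MonoidHom.inv_apply, hc a b hab]
  have hsq : ∀ t ∈ orb T N s, t⁻¹ ≠ t := by
    rintro t ⟨n, hn, hc⟩ hh
    obtain ⟨x, hx⟩ := hs
    apply hx
    have h3 := hc ⟨_, h.NT n hn x x.2⟩ x (by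
      change (x : S) = n⁻¹ * (n * x * n⁻¹) * n
      group)
    have h4 := DFunLike.congr_fun hh ⟨_, h.NT n hn x x.2⟩
    rw [MonoidHom.inv_apply, h3] at h4
    rw [pow_two]
    nth_rewrite 1 [← h4]
    exact inv_mul_cancel _
  have h3 : ((h.finite_orb s).toFinset.card : ZMod 2) = 0 := by
    have h4 : ∑ _t ∈ (h.finite_orb s).toFinset, (1 : ZMod 2) = 0 := by
      refine Finset.sum_involution (fun t _ => t⁻¹) ?_ ?_ ?_ ?_
      · intro t _; decide
      · intro t ht _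
        exact hsq t ((h.finite_orb s).mem_toFinset.1 ht)
      · intro t ht
        exact (h.finite_orb s).mem_toFinset.2 (hinv t ((h.finite_orb s).mem_toFinset.1 ht))
      · intro t _
        exact inv_inv t
    rwa [Finset.sum_const, nsmul_eq_mul, mul_one] at h4
  rw [← Set.ncard_eq_toFinset_card _ (h.finite_orb s)] at h3
  have h4 : Even (orb T N s).ncard := by
    rwa [ZMod.natCast_eq_zero_iff_even] at h3
  exact (Nat.not_even_iff_odd.2 hodd) h4

end Sys

/-- **The toral lemma.** -/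
theorem main {S : Type u} [Group S] [Fintype S] {U T N : Subgroup S} (h : Sys U T N) {ψ : U →* ℂˣ}
    (hψ : Reg U T N ψ) (s : T →* ℂˣ) (h2 : ∃ k : ℕ, ∀ t, s t ^ 2 ^ k = 1) (hodd : Odd (orb T N s).ncard) :
    ∃ χ : IrrCharacter S,
      classInner (indFun h.B (fun x => (h.lin s x : ℂ))) (χ : S → ℂ) = 1 ∧
      classInner (indFun U (fun x => (ψ x : ℂ))) (χ : S → ℂ) = 1 ∧
      (∀ χ' : IrrCharacter S, classInner (indFun h.B (fun x => (h.lin s x : ℂ))) (χ' : S → ℂ) ≠ 0 →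
        classInner (indFun U (fun x => (ψ x : ℂ))) (χ' : S → ℂ) ≠ 0 → χ' = χ) ∧
      Odd (charDegree (χ : S → ℂ)) ∧
      (∀ M : Ideal AlgInt, IsPModular 2 M → χ ∈ principalBlock M S) ∧
      ((∃ t, s t ^ 2 ≠ 1) → ∃ g : S, ((χ : S → ℂ) g).im ≠ 0) := by
  obtain ⟨k, hk⟩ := h2
  obtain ⟨χ, h3, h4, h5⟩ := exists_common (MackeyIrr.isCharacter_ind U ψ) (MackeyIrr.isCharacter_ind h.B (h.lin s))
    (h.inner_UB hψ s)
  exact ⟨χ, h4, h3, fun χ' hX hY => h5 χ' hY hX, h.odd_degree hk hodd h4,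
    fun M hM => h.mem_principal hk hodd h4 hM, fun hs => h.not_real hodd hs h4⟩

end Cfsg.Agent.H150.Toral
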